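import Cfsg.Agent.Bt.Defs

set_option autoImplicit false
set_option maxRecDepth 1000000

namespace CF.Bt.FusA11

open CF.Comp

noncomputable def X_0 : Net := (Net.cons (nat_lit 1) (nat_lit 337) (Net.cons (nat_lit 2) (nat_lit 258) (Net.cons (nat_lit 8) (nat_lit 3) (Net.cons (nat_lit 4) (nat_lit 13) (Net.cons (nat_lit 2) (nat_lit 34) (Net.cons (nat_lit 1) (nat_lit 276) Net.nil))))))
noncomputable def X_1 : Net := (Net.cons (nat_lit 1) (nat_lit 341) (Net.cons (nat_lit 2) (nat_lit 306) (Net.cons (nat_lit 4) (nat_lit 1) (Net.cons (nat_lit 8) (nat_lit 3) (Net.cons (nat_lit 4) (nat_lit 13) (Net.cons (nat_lit 2) (nat_lit 1) (Net.cons (nat_lit 1) (nat_lit 80) Net.nil)))))))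
noncomputable def X : List Net := [X_0, X_1]
noncomputable def X1_0 : Net := (Net.cons (nat_lit 1) (nat_lit 321) (Net.cons (nat_lit 2) (nat_lit 2) (Net.cons (nat_lit 4) (nat_lit 1) (Net.cons (nat_lit 8) (nat_lit 3) (Net.cons (nat_lit 4) (nat_lit 8) (Net.cons (nat_lit 2) (nat_lit 257) (Net.cons (nat_lit 1) (nat_lit 5) Net.nil)))))))
noncomputable def X1_1 : Net := (Net.cons (nat_lit 1) (nat_lit 4) (Net.cons (nat_lit 2) (nat_lit 18) (Net.cons (nat_lit 4) (nat_lit 4) (Net.cons (nat_lit 8) (nat_lit 7) (Net.cons (nat_lit 4) (nat_lit 4) (Net.cons (nat_lit 2) (nat_lit 18) Net.nil))))))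
noncomputable def X1_2 : Net := (Net.cons (nat_lit 1) (nat_lit 80) (Net.cons (nat_lit 2) (nat_lit 2) (Net.cons (nat_lit 8) (nat_lit 2) (Net.cons (nat_lit 4) (nat_lit 10) (Net.cons (nat_lit 2) (nat_lit 288) (Net.cons (nat_lit 1) (nat_lit 80) Net.nil))))))
noncomputable def X1_3 : Net := (Net.cons (nat_lit 1) (nat_lit 324) (Net.cons (nat_lit 2) (nat_lit 16) (Net.cons (nat_lit 4) (nat_lit 4) (Net.cons (nat_lit 8) (nat_lit 5) (Net.cons (nat_lit 4) (nat_lit 12) (Net.cons (nat_lit 2) (nat_lit 274) (Net.cons (nat_lit 1) (nat_lit 325) Net.nil)))))))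
noncomputable def X1_4 : Net := (Net.cons (nat_lit 1) (nat_lit 4) (Net.cons (nat_lit 2) (nat_lit 2) (Net.cons (nat_lit 4) (nat_lit 1) (Net.cons (nat_lit 8) (nat_lit 3) (Net.cons (nat_lit 4) (nat_lit 1) (Net.cons (nat_lit 2) (nat_lit 3) (Net.cons (nat_lit 1) (nat_lit 5) Net.nil)))))))
noncomputable def X1_5 : Net := (Net.cons (nat_lit 1) (nat_lit 260) (Net.cons (nat_lit 8) (nat_lit 1) (Net.cons (nat_lit 4) (nat_lit 1) (Net.cons (nat_lit 2) (nat_lit 17) (Net.cons (nat_lit 1) (nat_lit 257) Net.nil)))))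
noncomputable def X1_6 : Net := (Net.cons (nat_lit 1) (nat_lit 64) (Net.cons (nat_lit 2) (nat_lit 290) (Net.cons (nat_lit 4) (nat_lit 2) (Net.cons (nat_lit 8) (nat_lit 6) (Net.cons (nat_lit 2) (nat_lit 290) (Net.cons (nat_lit 1) (nat_lit 325) Net.nil))))))
noncomputable def X1_7 : Net := (Net.cons (nat_lit 1) (nat_lit 4) (Net.cons (nat_lit 2) (nat_lit 2) Net.nil))
noncomputable def X1_8 : Net := (Net.cons (nat_lit 2) (nat_lit 2) (Net.cons (nat_lit 8) (nat_lit 2) (Net.cons (nat_lit 2) (nat_lit 2) (Net.cons (nat_lit 1) (nat_lit 256) Net.nil))))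
noncomputable def X1_9 : Net := (Net.cons (nat_lit 1) (nat_lit 256) (Net.cons (nat_lit 2) (nat_lit 256) (Net.cons (nat_lit 8) (nat_lit 4) (Net.cons (nat_lit 2) (nat_lit 256) (Net.cons (nat_lit 1) (nat_lit 257) Net.nil)))))
noncomputable def X1_10 : Net := (Net.cons (nat_lit 1) (nat_lit 4) (Net.cons (nat_lit 8) (nat_lit 1) (Net.cons (nat_lit 2) (nat_lit 1) (Net.cons (nat_lit 1) (nat_lit 4) Net.nil))))
noncomputable def X1_11 : Net := (Net.cons (nat_lit 2) (nat_lit 256) (Net.cons (nat_lit 8) (nat_lit 4) (Net.cons (nat_lit 2) (nat_lit 256) (Net.cons (nat_lit 1) (nat_lit 4) Net.nil))))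
noncomputable def X1_12 : Net := (Net.cons (nat_lit 1) (nat_lit 4) (Net.cons (nat_lit 2) (nat_lit 2) (Net.cons (nat_lit 8) (nat_lit 3) (Net.cons (nat_lit 2) (nat_lit 2) (Net.cons (nat_lit 1) (nat_lit 4) Net.nil)))))
noncomputable def X1_13 : Net := (Net.cons (nat_lit 1) (nat_lit 260) (Net.cons (nat_lit 8) (nat_lit 1) (Net.cons (nat_lit 2) (nat_lit 1) (Net.cons (nat_lit 1) (nat_lit 260) Net.nil))))
noncomputable def X1_14 : Net := (Net.cons (nat_lit 1) (nat_lit 256) (Net.cons (nat_lit 2) (nat_lit 256) (Net.cons (nat_lit 8) (nat_lit 4) (Net.cons (nat_lit 2) (nat_lit 257) (Net.cons (nat_lit 1) (nat_lit 256) Net.nil)))))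
noncomputable def X1_15 : Net := (Net.cons (nat_lit 1) (nat_lit 321) (Net.cons (nat_lit 2) (nat_lit 256) (Net.cons (nat_lit 4) (nat_lit 6) (Net.cons (nat_lit 8) (nat_lit 7) (Net.cons (nat_lit 4) (nat_lit 6) (Net.cons (nat_lit 2) (nat_lit 304) (Net.cons (nat_lit 1) (nat_lit 17) Net.nil)))))))
noncomputable def X1_16 : Net := (Net.cons (nat_lit 2) (nat_lit 32) (Net.cons (nat_lit 1) (nat_lit 4) Net.nil))
noncomputable def X1_17 : Net := (Net.cons (nat_lit 1) (nat_lit 65) (Net.cons (nat_lit 2) (nat_lit 32) (Net.cons (nat_lit 4) (nat_lit 6) (Net.cons (nat_lit 8) (nat_lit 7) (Net.cons (nat_lit 4) (nat_lit 6) (Net.cons (nat_lit 2) (nat_lit 32) (Net.cons (nat_lit 1) (nat_lit 81) Net.nil)))))))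
noncomputable def X1_18 : Net := (Net.cons (nat_lit 2) (nat_lit 256) (Net.cons (nat_lit 4) (nat_lit 1) (Net.cons (nat_lit 8) (nat_lit 1) (Net.cons (nat_lit 4) (nat_lit 1) (Net.cons (nat_lit 2) (nat_lit 288) Net.nil)))))
noncomputable def X1_19 : Net := (Net.cons (nat_lit 1) (nat_lit 16) (Net.cons (nat_lit 2) (nat_lit 256) (Net.cons (nat_lit 4) (nat_lit 1) (Net.cons (nat_lit 8) (nat_lit 1) (Net.cons (nat_lit 4) (nat_lit 1) (Net.cons (nat_lit 2) (nat_lit 288) (Net.cons (nat_lit 1) (nat_lit 276) Net.nil)))))))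
noncomputable def X1_20 : Net := (Net.cons (nat_lit 1) (nat_lit 1) (Net.cons (nat_lit 2) (nat_lit 16) (Net.cons (nat_lit 4) (nat_lit 4) (Net.cons (nat_lit 8) (nat_lit 4) (Net.cons (nat_lit 4) (nat_lit 5) (Net.cons (nat_lit 2) (nat_lit 48) (Net.cons (nat_lit 1) (nat_lit 5) Net.nil)))))))
noncomputable def X1_21 : Net := (Net.cons (nat_lit 1) (nat_lit 1) (Net.cons (nat_lit 2) (nat_lit 16) (Net.cons (nat_lit 4) (nat_lit 4) (Net.cons (nat_lit 8) (nat_lit 4) (Net.cons (nat_lit 4) (nat_lit 5) (Net.cons (nat_lit 2) (nat_lit 48) (Net.cons (nat_lit 1) (nat_lit 257) Net.nil)))))))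
noncomputable def X1_22 : Net := (Net.cons (nat_lit 1) (nat_lit 277) (Net.cons (nat_lit 2) (nat_lit 16) (Net.cons (nat_lit 4) (nat_lit 3) (Net.cons (nat_lit 8) (nat_lit 3) (Net.cons (nat_lit 4) (nat_lit 2) (Net.cons (nat_lit 2) (nat_lit 290) (Net.cons (nat_lit 1) (nat_lit 69) Net.nil)))))))
noncomputable def X1_23 : Net := (Net.cons (nat_lit 2) (nat_lit 256) (Net.cons (nat_lit 4) (nat_lit 1) (Net.cons (nat_lit 8) (nat_lit 1) (Net.cons (nat_lit 4) (nat_lit 3) (Net.cons (nat_lit 2) (nat_lit 257) (Net.cons (nat_lit 1) (nat_lit 324) Net.nil))))))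
noncomputable def X1 : List Net := [X1_0, X1_1, X1_2, X1_3, X1_4, X1_5, X1_6, X1_7, X1_8, X1_9, X1_10, X1_11, X1_12, X1_13, X1_14, X1_15, X1_16, X1_17, X1_18, X1_19, X1_20, X1_21, X1_22, X1_23]
noncomputable def ws : List (List Nat) := [[12, 1, 4, 18, 5, 16, 7, 12, 9, 18, 11, 14], [12, 1, 4, 12, 5, 8, 14, 9, 16, 13, 15, 17]]
noncomputable def W : List (List Nat) := [[2, 4, 2, 4, 2, 3, 1], [2, 2, 2, 4, 1, 3, 1, 1], [6, 7, 5], [5, 8, 6, 6], [11, 9, 12], [12, 12, 9, 9, 12, 12], [15, 15, 13, 15], [16, 13, 13, 15], [17, 19, 17, 17, 20, 18], [17, 17, 17], [17, 20, 18, 18, 19, 18], [24, 22, 23], [24, 25, 23, 26, 23], [30, 28, 29], [27, 30, 27, 29, 28], [15, 1, 13, 6, 12, 12, 15, 19, 18, 33, 23, 31], [5, 1, 11, 6, 33, 12, 15, 17, 25, 23, 31], [1, 1, 14, 6, 15, 12, 15, 15, 20, 18, 23, 29, 34, 34, 32], [5, 1, 11, 6, 14, 12, 19, 15, 25, 18, 26, 23, 27, 34], [2, 12, 15, 15, 33, 23, 31, 29,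 34, 32], [5, 1, 11, 6, 14, 12, 19, 15, 18, 33], [5, 1, 11, 6, 14, 12, 19, 15, 18, 29, 32, 34, 32], [5, 1, 11, 6, 16, 18, 27, 31], [14, 1, 33, 6, 15, 12, 15, 15, 22, 18, 33, 23, 33]]
noncomputable def c : List Lvl := [⟨(nat_lit 5), [[(nat_lit 1)],
  [(nat_lit 3)]], (nat_lit 4)⟩,
  ⟨(nat_lit 7), [[(nat_lit 5)],
  [(nat_lit 7)]], (nat_lit 6)⟩,
  ⟨(nat_lit 10), [[(nat_lit 9)],
  [(nat_lit 11)]], (nat_lit 3)⟩,
  ⟨(nat_lit 4), [[(nat_lit 13)],
  [(nat_lit 15)]], (nat_lit 3)⟩,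
  ⟨(nat_lit 6), [[(nat_lit 17)],
  [(nat_lit 19)]], (nat_lit 4)⟩,
  ⟨(nat_lit 1), [[(nat_lit 21)],
  [(nat_lit 23)],
  [(nat_lit 25)]], (nat_lit 3)⟩,
  ⟨(nat_lit 8), [[(nat_lit 27)],
  [(nat_lit 29)]], (nat_lit 3)⟩,
  ⟨(nat_lit 9), [[(nat_lit 31)],
  [(nat_lit 33)]], (nat_lit 2)⟩,
  ⟨(nat_lit 3), [[(nat_lit 31), (nat_lit 33)]], (nat_lit 2)⟩]
noncomputable def cz : List Lvl := [⟨(nat_lit 7), [[(nat_lit 49)],
  [(nat_lit 51)]], (nat_lit 2)⟩,
  ⟨(nat_lit 8), [[(nat_lit 49), (nat_lit 49)],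
  [(nat_lit 51), (nat_lit 51)],
  [(nat_lit 51), (nat_lit 49), (nat_lit 49), (nat_lit 49), (nat_lit 51)],
  [(nat_lit 51), (nat_lit 50), (nat_lit 51), (nat_lit 49), (nat_lit 51), (nat_lit 49)]], (nat_lit 3)⟩,
  ⟨(nat_lit 10), [[(nat_lit 51), (nat_lit 51)],
  [(nat_lit 51), (nat_lit 49), (nat_lit 49), (nat_lit 49), (nat_lit 51)],
  [(nat_lit 51), (nat_lit 50), (nat_lit 51), (nat_lit 49), (nat_lit 51), (nat_lit 49)]], (nat_lit 2)⟩,
  ⟨(nat_lit 3), [[(nat_lit 51), (nat_lit 51)],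
  [(nat_lit 51), (nat_lit 49), (nat_lit 49), (nat_lit 49), (nat_lit 51)]], (nat_lit 2)⟩,
  ⟨(nat_lit 1), [[(nat_lit 51), (nat_lit 49), (nat_lit 49), (nat_lit 49), (nat_lit 51)]], (nat_lit 1)⟩]
noncomputable def cS : List Lvl := [⟨(nat_lit 8), [[(nat_lit 35)],
  [(nat_lit 37)],
  [(nat_lit 39)],
  [(nat_lit 41)],
  [(nat_lit 43)],
  [(nat_lit 45)],
  [(nat_lit 47)]], (nat_lit 1)⟩,
  ⟨(nat_lit 4), [[(nat_lit 37)],
  [(nat_lit 41)],
  [(nat_lit 45)],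
  [(nat_lit 47), (nat_lit 43)]], (nat_lit 1)⟩,
  ⟨(nat_lit 1), [[(nat_lit 37)],
  [(nat_lit 45), (nat_lit 41)]], (nat_lit 1)⟩,
  ⟨(nat_lit 7), [[(nat_lit 37)]], (nat_lit 1)⟩]
noncomputable def T : Tr := (.sym [[1], [3]] (.cons [] 2 144 (.op 4 0 (.focus 0 (.cons [] 0 144 (.op 2 0 (.xor 0 1 (.focus 0 (.xor 1 4 (.focus 0 (.sym [[5], [7], [9], [11]] (.cons [] 1 24 (.op 4 0 (.focus 0 (.cons [] 0 24 (.focus 4 (.focus 3 (.xor 5 0 (.focus 0 (.xor 6 3 (.focus 0 (.sym [[13], [15], [17]] (.cons [] 2 6 (.op 4 0 (.focus 0 (.cons [] 0 6 (.focus 4 (.focus 3 (.focus 9 (.focus 8 (.xor 10 0 (.focus 0 (.xor 11 3 (.focus 0 (.sym [[13], [19]] (.cons [] 1 3 (.op 4 0 (.focus 0 (.cons [] 0 3 .triv .nil))) (.cons [3] 2 0 (.op 5 0 (.and 1 0 (.dead0 0))) .nil))))))))))) .nil))) (.cons [2] 1 0 (.op 5 0 (.and 1 0 (.dead0 0))) .nil))))))))) .nil))) (.cons [4] 1 0 (.op 5 0 (.and 1 0 (.dead0 0))) .nil))))))))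 .nil))) (.cons [1] 1 0 (.op 5 0 (.and 1 0 (.dead0 0))) .nil)))
noncomputable def TK : List (List Nat) := [[49], [51], [52, 50, 50, 51, 49, 51, 49, 51], [49, 51, 49, 49, 49, 51, 49], [52, 49, 51, 49, 49, 51, 49], [49, 52, 49, 49, 49, 51, 50], [51, 51], [52, 49, 49, 49, 51], [49, 52, 49, 51, 50, 51], [50, 51, 49, 49, 49, 52, 49]]
noncomputable def TF : List (List Nat) := [[], [1]]
noncomputable def ss : List (List Nat) := [[35], [37], [39], [41], [43], [45], [47]]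
noncomputable def cs : List (List Nat) := [[49], [51]]
noncomputable def z : List Nat := [47]
noncomputable def pc : List (List Nat × List (List Nat)) := [([], [[11, 9], [3], [11, 5], [9, 7, 3, 1], [11, 1], [11]]), ([], [[3, 1], [3], [5, 3], [7], [9]]), ([], [[1], [7, 3, 1], [7, 5, 1], [7]]), ([], [[1], [3], [5]]), ([], [[1], [3]]), ([], [[1]]), ([], [])]
noncomputable def ts : List (List Nat) := [[49], [51], [49, 49], [49, 51], [51, 51], [49, 49, 51], [51, 49, 51], [49, 51, 51]]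
noncomputable def tb : List (List (Nat × List Nat)) := [[(1, []), (2, [])], [(3, []), (0, [9, 7, 5, 1])], [(4, []), (5, [])], [(5, [3]), (4, [13, 11, 7, 1])], [(6, []), (7, [])], [(8, []), (8, [13, 11, 9, 7, 3, 1])], [(2, [11, 7]), (1, [13, 7, 5, 3])], [(0, [13, 7, 1]), (3, [13, 11, 9, 7, 3, 1])], [(7, [13, 11, 7, 1]), (6, [13, 5, 3])]]
noncomputable def nn : List (List Nat × List Nat × Nat × Nat) := [([13, 9], [9], 1, 3), ([5, 3], [11, 7, 1], 1, 3), ([9, 1], [9, 5], 1, 3), ([9, 5], [9], 1, 3), ([11, 7], [9], 2, 3), ([13, 3], [3], 2, 3), ([9, 1], [9], 1, 3), ([13, 9], [9, 1], 1, 3)]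
noncomputable def st : List (List Nat × List Nat × List Nat) := [([15, 6, 9, 15, 15, 25, 18, 25, 23, 31, 31, 33], [1], [1]), ([14, 1, 5, 11, 18, 33, 23, 28], [1], [11]), ([15, 5, 11, 16, 20, 18, 26, 23, 31, 29, 32], [5], [5]), ([13, 1, 14, 6, 12, 13, 15, 19, 18, 26, 23, 31, 29, 32, 34, 32], [3], [9])]
noncomputable def fin : List (List Nat) := [[7], [9, 7, 5, 7], [3], [9, 3, 1, 3, 1], [1], [5], [9]]

end CF.Bt.FusA11
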