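import Cfsg.Agent.Bt.Defs

set_option autoImplicit false
set_option maxRecDepth 1000000

namespace CF.Bt.FusJ2

open CF.Comp

noncomputable def X_0 : Net := (Net.cons (nat_lit 1) (nat_lit 0x1401410154400015054110010) (Net.cons (nat_lit 2) (nat_lit 0x32220301113311012201200) (Net.cons (nat_lit 4) (nat_lit 0xd02050e0d060a00010a0001) (Net.cons (nat_lit 8) (nat_lit 0xf0004800f400ba00090000) (Net.cons (nat_lit 16) (nat_lit 0x35490000874300000002) (Net.cons (nat_lit 32) (nat_lit 0xe000000000dbc8060) (Net.cons (nat_lit 64) (nat_lit 0x3cdbfb1ed) (Net.cons (nat_lit 32) (nat_lit 0x10000000030eb9bec) (Net.cons (nat_lit 16) (nat_lit 0x4a470000ef260000f5d9) (Net.cons (nat_lit 8) (nat_lit 0x40004300f50025005b00ed) (Net.cons (nat_lit 4) (nat_lit 0x60c06060900050d07010d0c) (Net.cons (nat_lit 2) (nat_lit 0x1223013221103030122033133) (Net.cons (nat_lit 1) (nat_lit 0x1455104414045545040050511) Net.nil)))))))))))))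
noncomputable def X_1 : Net := (Net.cons (nat_lit 1) (nat_lit 0x5015151511045411140510014) (Net.cons (nat_lit 2) (nat_lit 0x12000331301330211312010) (Net.cons (nat_lit 4) (nat_lit 0x70a030c0c08000303050404) (Net.cons (nat_lit 8) (nat_lit 0x3000fc00a3004b0079000d) (Net.cons (nat_lit 16) (nat_lit 0x91870000028500000000) (Net.cons (nat_lit 32) (nat_lit 0x10000000016424410) (Net.cons (nat_lit 64) (nat_lit 0xdbed36f1e) (Net.cons (nat_lit 32) (nat_lit 0xa00000000a9d5ee53) (Net.cons (nat_lit 16) (nat_lit 0x9b9c0000f1590000d587) (Net.cons (nat_lit 8) (nat_lit 0x580094000200e7002600f4) (Net.cons (nat_lit 4) (nat_lit 0xd0c05010b0c000a0c050909) (Net.cons (nat_lit 2) (nat_lit 0x31233111313012023103103) (Net.cons (nat_lit 1) (nat_lit 0x5011445545405510411005501) Net.nil)))))))))))))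
noncomputable def X : List Net := [X_0, X_1]
noncomputable def X1_0 : Net := (Net.cons (nat_lit 1) (nat_lit 0x4544555554005415544110550) (Net.cons (nat_lit 2) (nat_lit 0x2000320202301331210232310) (Net.cons (nat_lit 4) (nat_lit 0xf0d030c000c00030408010f) (Net.cons (nat_lit 8) (nat_lit 0x9700e2001d00fa0027000e) (Net.cons (nat_lit 16) (nat_lit 0x275d0000104d00000000) (Net.cons (nat_lit 32) (nat_lit 0xd0000000068473820) (Net.cons (nat_lit 64) (nat_lit 0xaedf73af5) (Net.cons (nat_lit 32) (nat_lit 1445887743) (Net.cons (nat_lit 16) (nat_lit 0x3a5e000067a7000075de) (Net.cons (nat_lit 8) (nat_lit 0x310089004200e200610047) (Net.cons (nat_lit 4) (nat_lit 0xd0406040d090d0104050302) (Net.cons (nat_lit 2) (nat_lit 0x300001033101200200230210) (Net.cons (nat_lit 1) (nat_lit 0x1450554145050005404040444) Net.nil)))))))))))))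
noncomputable def X1_1 : Net := (Net.cons (nat_lit 1) (nat_lit 0x5101545145005000004155050) (Net.cons (nat_lit 2) (nat_lit 0x3223030101011111012121220) (Net.cons (nat_lit 4) (nat_lit 0x409080a0a02060603000401) (Net.cons (nat_lit 8) (nat_lit 0x1a003200480071005e0005) (Net.cons (nat_lit 16) (nat_lit 0x800c0000009a00000000) (Net.cons (nat_lit 32) (nat_lit 0x10000000005f46a40) (Net.cons (nat_lit 64) (nat_lit 0x8d5ff6bf9) (Net.cons (nat_lit 32) (nat_lit 0x700000000d41a1080) (Net.cons (nat_lit 16) (nat_lit 0xb2f60000914400004265) (Net.cons (nat_lit 8) (nat_lit 0xfc00bf00ac0012002c00d1) (Net.cons (nat_lit 4) (nat_lit 0x709000c0b010603000c0209) (Net.cons (nat_lit 2) (nat_lit 0x313133311320030102121320) (Net.cons (nat_lit 1) (nat_lit 0x1544405115500104545040454) Net.nil)))))))))))))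
noncomputable def X1_2 : Net := (Net.cons (nat_lit 1) (nat_lit 0x1450400454415404515101000) (Net.cons (nat_lit 2) (nat_lit 0x3012120331211333030100000) (Net.cons (nat_lit 4) (nat_lit 0xc0902090e05010806030f00) (Net.cons (nat_lit 8) (nat_lit 0x9700b00001001f008f0000) (Net.cons (nat_lit 16) (nat_lit 0xb0eb0000386700000003) (Net.cons (nat_lit 32) (nat_lit 0x40000000041837e30) (Net.cons (nat_lit 64) (nat_lit 0x459cbff30) (Net.cons (nat_lit 32) (nat_lit 0xf0000000061777f33) (Net.cons (nat_lit 16) (nat_lit 0xb65b00007b9c00000743) (Net.cons (nat_lit 8) (nat_lit 0x270075004e003e00870050) (Net.cons (nat_lit 4) (nat_lit 0xc0b0f09080a0f0800060b0c) (Net.cons (nat_lit 2) (nat_lit 0x3022112333120303021001000) (Net.cons (nat_lit 1) (nat_lit 0x1400101400111504114515110) Net.nil)))))))))))))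
noncomputable def X1_3 : Net := (Net.cons (nat_lit 1) (nat_lit 0x514151540105440105104014) (Net.cons (nat_lit 2) (nat_lit 0x2020000002012031120212110) (Net.cons (nat_lit 4) (nat_lit 0x20c0d05030b070606050408) (Net.cons (nat_lit 8) (nat_lit 0x60000500c5000a00840005) (Net.cons (nat_lit 16) (nat_lit 0x20450000122100000000) (Net.cons (nat_lit 32) (nat_lit 0x3000000005e864450) (Net.cons (nat_lit 64) (nat_lit 0xaff977e79) (Net.cons (nat_lit 32) (nat_lit 0xf00000000591feaac) (Net.cons (nat_lit 16) (nat_lit 0xca670000be3b000007f5) (Net.cons (nat_lit 8) (nat_lit 0x1500af002c003e001a00c8) (Net.cons (nat_lit 4) (nat_lit 0xf090000090a04080f0b09) (Net.cons (nat_lit 2) (nat_lit 0x2001202320200211321220331) (Net.cons (nat_lit 1) (nat_lit 0x5515404541545044414510040) Net.nil)))))))))))))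
noncomputable def X1_4 : Net := (Net.cons (nat_lit 1) (nat_lit 0x1400514541411141504011400) (Net.cons (nat_lit 2) (nat_lit 0x2003102222100322013112100) (Net.cons (nat_lit 4) (nat_lit 0xa0902000002060804090200) (Net.cons (nat_lit 8) (nat_lit 0x3008600e30005004e0004) (Net.cons (nat_lit 16) (nat_lit 0x2350000099500000009) (Net.cons (nat_lit 32) (nat_lit 0x400000000020c4a10) (Net.cons (nat_lit 64) (nat_lit 0x96a3deb5d) (Net.cons (nat_lit 32) (nat_lit 0xb000000009694e109) (Net.cons (nat_lit 16) (nat_lit 0x10670000d130000016c8) (Net.cons (nat_lit 8) (nat_lit 0x5300b80070009d00960014) (Net.cons (nat_lit 4) (nat_lit 0x809010600020408070d0300) (Net.cons (nat_lit 2) (nat_lit 0x203103313120202111223101) (Net.cons (nat_lit 1) (nat_lit 0x1500510001111455404005400) Net.nil)))))))))))))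
noncomputable def X1_5 : Net := (Net.cons (nat_lit 1) (nat_lit 0x1151445005545414100140400) (Net.cons (nat_lit 2) (nat_lit 0x1123200110221022020200200) (Net.cons (nat_lit 4) (nat_lit 0x201000b09040b0c00010008) (Net.cons (nat_lit 8) (nat_lit 0xa100a1008a00ac00080000) (Net.cons (nat_lit 16) (nat_lit 0x180a0000004800000001) (Net.cons (nat_lit 32) (nat_lit 1375750272) (Net.cons (nat_lit 64) (nat_lit 0x9ff00ebc9) (Net.cons (nat_lit 32) (nat_lit 0x7000000005aa89461) (Net.cons (nat_lit 16) (nat_lit 0x910a00002cbc000089a7) (Net.cons (nat_lit 8) (nat_lit 0xa10061008e006800880040) (Net.cons (nat_lit 4) (nat_lit 0x201000b09000b0800010408) (Net.cons (nat_lit 2) (nat_lit 0x1123300110221022020200200) (Net.cons (nat_lit 1) (nat_lit 0x1551445005545514100140400) Net.nil)))))))))))))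
noncomputable def X1_6 : Net := (Net.cons (nat_lit 1) (nat_lit 0x1404450110115554101150040) (Net.cons (nat_lit 2) (nat_lit 0x1110232232222010322323000) (Net.cons (nat_lit 4) (nat_lit 0x502000c0408070b01000300) (Net.cons (nat_lit 8) (nat_lit 0xe400220043000200990009) (Net.cons (nat_lit 16) (nat_lit 0x11f40000e1110000000e) (Net.cons (nat_lit 32) (nat_lit 0x70000000027341a40) (Net.cons (nat_lit 64) (nat_lit 0x2b7b73e4d) (Net.cons (nat_lit 32) (nat_lit 0x8000000003f2bcd46) (Net.cons (nat_lit 16) (nat_lit 0x917200007101000011ef) (Net.cons (nat_lit 8) (nat_lit 0x1f00f400de00d400010089) (Net.cons (nat_lit 4) (nat_lit 0x20500060b000e0506080f09) (Net.cons (nat_lit 2) (nat_lit 0x1011332212232333122022333) (Net.cons (nat_lit 1) (nat_lit 0x4515055455400005044405415) Net.nil)))))))))))))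
noncomputable def X1_7 : Net := (Net.cons (nat_lit 1) (nat_lit 0x4140140441110000140055104) (Net.cons (nat_lit 2) (nat_lit 0x1322002132000303301232310) (Net.cons (nat_lit 4) (nat_lit 0x50e080504090b080b000f00) (Net.cons (nat_lit 8) (nat_lit 0xa5001000a50008003a0004) (Net.cons (nat_lit 16) (nat_lit 0x1bb000010d000000003) (Net.cons (nat_lit 32) (nat_lit 0x80000000029340260) (Net.cons (nat_lit 64) (nat_lit 0x62d7642e9) (Net.cons (nat_lit 32) (nat_lit 0x1000000000e6a5cc1) (Net.cons (nat_lit 16) (nat_lit 0xf6050000f7010000fffc) (Net.cons (nat_lit 8) (nat_lit 0x520089005b000900c5008b) (Net.cons (nat_lit 4) (nat_lit 0xa07090a0a0806010c050709) (Net.cons (nat_lit 2) (nat_lit 0x1022332102133020031202013) (Net.cons (nat_lit 1) (nat_lit 0x1415415114445555415500451) Net.nil)))))))))))))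
noncomputable def X1_8 : Net := (Net.cons (nat_lit 1) (nat_lit 0x4511544554001410440044000) (Net.cons (nat_lit 2) (nat_lit 0x1232330031300101130200000) (Net.cons (nat_lit 4) (nat_lit 0x30504010c0c070609020000) (Net.cons (nat_lit 8) (nat_lit 0x3e00570052004c00c00009) (Net.cons (nat_lit 16) (nat_lit 0x46c300009a0c0000000e) (Net.cons (nat_lit 32) (nat_lit 1191516160) (Net.cons (nat_lit 64) (nat_lit 0xedf753b8e) (Net.cons (nat_lit 32) (nat_lit 0xb00000000174b983a) (Net.cons (nat_lit 16) (nat_lit 0x77190000503600000f4f) (Net.cons (nat_lit 8) (nat_lit 0x6a00eb00b900ab00d500a3) (Net.cons (nat_lit 4) (nat_lit 0xc01000403070c0d02080001) (Net.cons (nat_lit 2) (nat_lit 0x3000003302023232203133333) (Net.cons (nat_lit 1) (nat_lit 0x4511544554001410440044000) Net.nil)))))))))))))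
noncomputable def X1_9 : Net := (Net.cons (nat_lit 1) (nat_lit 0x140410544410150100145114) (Net.cons (nat_lit 2) (nat_lit 0x3201300102120300300312330) (Net.cons (nat_lit 4) (nat_lit 0x4070b0e0e0d040c01040e0f) (Net.cons (nat_lit 8) (nat_lit 0x8500140088009000940002) (Net.cons (nat_lit 16) (nat_lit 0x8986000089c400000008) (Net.cons (nat_lit 32) (nat_lit 110137440) (Net.cons (nat_lit 64) (nat_lit 0x91796fee9) (Net.cons (nat_lit 32) (nat_lit 0xf00000000cedd817b) (Net.cons (nat_lit 16) (nat_lit 0x82060000e0540000cb5a) (Net.cons (nat_lit 8) (nat_lit 0x6c0036009b009000710052) (Net.cons (nat_lit 4) (nat_lit 0xe0e0f05060d02050c040301) (Net.cons (nat_lit 2) (nat_lit 0x3031033120322031033112013) (Net.cons (nat_lit 1) (nat_lit 0x104045055541005415050401) Net.nil)))))))))))))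
noncomputable def X1_10 : Net := (Net.cons (nat_lit 1) (nat_lit 0x5441001554101010405055100) (Net.cons (nat_lit 2) (nat_lit 0x1110323012123031103200) (Net.cons (nat_lit 4) (nat_lit 0xb0200060f0902040c050f00) (Net.cons (nat_lit 8) (nat_lit 0x60008100e300ca0002000e) (Net.cons (nat_lit 16) (nat_lit 0x12aa0000110a00000003) (Net.cons (nat_lit 32) (nat_lit 0x800000000108a0220) (Net.cons (nat_lit 64) (nat_lit 0x610de3269) (Net.cons (nat_lit 32) (nat_lit 0x100000000ef359461) (Net.cons (nat_lit 16) (nat_lit 0xed550000048c0000b04c) (Net.cons (nat_lit 8) (nat_lit 0x48007b003c00ac003500ef) (Net.cons (nat_lit 4) (nat_lit 0x1000a0505010d0f020f060b) (Net.cons (nat_lit 2) (nat_lit 0x3321101020103321321100231) (Net.cons (nat_lit 1) (nat_lit 0x114554001454545150500455) Net.nil)))))))))))))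
noncomputable def X1_11 : Net := (Net.cons (nat_lit 1) (nat_lit 0x5455114444104040000150000) (Net.cons (nat_lit 2) (nat_lit 0x112213110010311120000010) (Net.cons (nat_lit 4) (nat_lit 0xc030100050c0507020e0000) (Net.cons (nat_lit 8) (nat_lit 0x9c00e60003001000760009) (Net.cons (nat_lit 16) (nat_lit 0x7108000057380000000a) (Net.cons (nat_lit 32) (nat_lit 0x20000000042303540) (Net.cons (nat_lit 64) (nat_lit 0x8e336b7ee) (Net.cons (nat_lit 32) (nat_lit 0x30000000054b87750) (Net.cons (nat_lit 16) (nat_lit 0xfb080000193d0000c60b) (Net.cons (nat_lit 8) (nat_lit 0x9c00f60003009000760009) (Net.cons (nat_lit 4) (nat_lit 0xc070104010c0107020a0400) (Net.cons (nat_lit 2) (nat_lit 0x112233110010311120000030) (Net.cons (nat_lit 1) (nat_lit 0x5455114444104040000151000) Net.nil)))))))))))))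
noncomputable def X1_12 : Net := (Net.cons (nat_lit 1) (nat_lit 0x5515400011115150555441014) (Net.cons (nat_lit 2) (nat_lit 0x1113301213012121312300000) (Net.cons (nat_lit 4) (nat_lit 0x8070a05030c07020a070606) (Net.cons (nat_lit 8) (nat_lit 0x99004d0094004600840002) (Net.cons (nat_lit 16) (nat_lit 0xc430000828900000007) (Net.cons (nat_lit 32) (nat_lit 0x400000000190e8150) (Net.cons (nat_lit 64) (nat_lit 0x91d7f87dc) (Net.cons (nat_lit 32) (nat_lit 0x30000000046bd2969) (Net.cons (nat_lit 16) (nat_lit 0x1eb70000c0740000ba3b) (Net.cons (nat_lit 8) (nat_lit 0x7800f300c80086001b0007) (Net.cons (nat_lit 4) (nat_lit 0xc0c08040b080f0b0f030d05) (Net.cons (nat_lit 2) (nat_lit 0x3111011012023203201213330) (Net.cons (nat_lit 1) (nat_lit 0x5505451105505101405101545) Net.nil)))))))))))))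
noncomputable def X1_13 : Net := (Net.cons (nat_lit 1) (nat_lit 0x1010140414401145054550550) (Net.cons (nat_lit 2) (nat_lit 0x2302020323101113103113000) (Net.cons (nat_lit 4) (nat_lit 0x6000b04060c040c0a050a0c) (Net.cons (nat_lit 8) (nat_lit 0xfc008800c600c90000000c) (Net.cons (nat_lit 16) (nat_lit 0xd0120000c08500000001) (Net.cons (nat_lit 32) (nat_lit 0x60000000003705440) (Net.cons (nat_lit 64) (nat_lit 0xf0b74dd61) (Net.cons (nat_lit 32) (nat_lit 0xb00000000d74c61d6) (Net.cons (nat_lit 16) (nat_lit 0x3c090000fee900009417) (Net.cons (nat_lit 8) (nat_lit 0xc300eb009200e800300028) (Net.cons (nat_lit 4) (nat_lit 0x5050305020802030103090c) (Net.cons (nat_lit 2) (nat_lit 0x2331022313230013003223130) (Net.cons (nat_lit 1) (nat_lit 0x1414554154410004541055140) Net.nil)))))))))))))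
noncomputable def X1_14 : Net := (Net.cons (nat_lit 1) (nat_lit 0x504410510544504045154150) (Net.cons (nat_lit 2) (nat_lit 0x100300121222001022212000) (Net.cons (nat_lit 4) (nat_lit 0x10d0e0e030608040a010005) (Net.cons (nat_lit 8) (nat_lit 0x9e00db0091007d00c90003) (Net.cons (nat_lit 16) (nat_lit 0x2b0c00006a4600000001) (Net.cons (nat_lit 32) (nat_lit 0x20000000041941000) (Net.cons (nat_lit 64) (nat_lit 0xdedbdd603) (Net.cons (nat_lit 32) (nat_lit 0x90000000050ad3fff) (Net.cons (nat_lit 16) (nat_lit 0x8ba5000060bd0000ca96) (Net.cons (nat_lit 8) (nat_lit 0xef00d3006000ab00350083) (Net.cons (nat_lit 4) (nat_lit 0x1060f060c0d0c090e05000c) (Net.cons (nat_lit 2) (nat_lit 0x3233110312221321200331223) (Net.cons (nat_lit 1) (nat_lit 0x4051550055545414455155050) Net.nil)))))))))))))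
noncomputable def X1 : List Net := [X1_0, X1_1, X1_2, X1_3, X1_4, X1_5, X1_6, X1_7, X1_8, X1_9, X1_10, X1_11, X1_12, X1_13, X1_14]
noncomputable def ws : List (List Nat) := [[7, 5, 9, 8, 9, 11, 7, 6, 2, 9, 5, 4, 4, 10, 8, 6, 9, 5, 7, 9, 3, 10, 8, 6, 10, 14, 9, 5, 7, 9, 1, 4, 10, 8, 6, 14, 9, 5, 7, 9, 3, 1, 10, 8, 6, 14, 9, 5, 7, 9, 1], [10, 5, 10, 7, 6, 2, 9, 5, 8, 9, 11, 7, 10, 8, 6, 9, 5, 7, 9, 1, 10, 8, 6, 14, 9, 5, 7, 9, 1]]
noncomputable def W : List (List Nat) := [[2, 3, 1, 1, 3, 3], [2, 2, 2, 4, 2], [7, 6, 6, 8], [5, 8, 5, 5, 5], [9, 12, 9], [5, 2, 14, 6, 10, 14, 12], [5, 11, 1, 10, 6, 6, 14, 10], [4, 5, 2, 9, 14, 10, 13], [6, 3, 7, 12, 12, 12], [4, 4, 1, 11, 7, 7, 9, 14, 10], [14, 7, 1, 9, 5, 10, 12, 10, 13], [2, 8, 6, 10, 12, 10, 13], [14, 5, 2, 14, 6, 14, 9, 13], [8, 5, 1, 6, 6, 9, 11, 14], [3, 1, 1, 14, 6, 10, 14, 12, 14]]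
noncomputable def c : List Lvl := [⟨(nat_lit 1), [[(nat_lit 1)],
  [(nat_lit 3)]], (nat_lit 7)⟩,
  ⟨(nat_lit 86), [[(nat_lit 5)],
  [(nat_lit 7)]], (nat_lit 6)⟩,
  ⟨(nat_lit 87), [[(nat_lit 9)],
  [(nat_lit 11)]], (nat_lit 5)⟩,
  ⟨(nat_lit 8), [[(nat_lit 13)]], (nat_lit 2)⟩]
noncomputable def cz : List Lvl := [⟨(nat_lit 14), [[(nat_lit 29)],
  [(nat_lit 31)],
  [(nat_lit 33)]], (nat_lit 4)⟩,
  ⟨(nat_lit 57), [[(nat_lit 34), (nat_lit 31)],
  [(nat_lit 30), (nat_lit 31), (nat_lit 29)]], (nat_lit 4)⟩]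
noncomputable def cS : List Lvl := [⟨(nat_lit 71), [[(nat_lit 15)],
  [(nat_lit 17)],
  [(nat_lit 19)],
  [(nat_lit 21)],
  [(nat_lit 23)],
  [(nat_lit 25)],
  [(nat_lit 27)]], (nat_lit 1)⟩,
  ⟨(nat_lit 39), [[(nat_lit 15)]], (nat_lit 1)⟩]
noncomputable def T : Tr := (.sym [[1], [3], [5]] (.cons [] 4 24 (.op 4 0 (.focus 0 (.cons [] 0 24 (.base (nat_lit 0xc0f8ea0026a81060b12020b30) (.focus 0 (.sym [[7], [9]] (.cons [] 2 3 .triv (.cons [4] 2 0 (.op 5 0 (.and 1 0 (.dead0 0))) (.cons [2] 2 0 (.base (nat_lit 268435456) (.op 4 1 (.and 1 0 (.dead0 0)))) (.cons [1] 2 0 (.base (nat_lit 32) (.op 5 0 (.and 1 0 (.dead0 0)))) .nil))))))) .nil))) (.cons [5, 1] 4 0 (.op 5 0 (.and 1 0 (.dead0 0))) .nil)))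
noncomputable def TK : List (List Nat) := [[29], [31], [30, 30, 33], [30, 30, 33, 29], [30, 32, 33, 29, 31, 29, 31]]
noncomputable def TF : List (List Nat) := [[], [1]]
noncomputable def ss : List (List Nat) := [[15], [17], [19], [21], [23], [25], [27]]
noncomputable def cs : List (List Nat) := [[29], [31], [33]]
noncomputable def z : List Nat := [27]
noncomputable def pc : List (List Nat × List (List Nat)) := [([], [[11, 7], [11, 9, 5], [7, 5, 1], [11, 1], [11, 7, 5, 3, 1], [11]]), ([], [[1], [9, 3], [9, 5], [9, 7, 5, 3], [9]]), ([], [[7, 3], [7, 1], [5, 3, 1], [7]]), ([], [[1], [3], [5]]), ([], [[1], [3]]), ([], [[1]]), ([], [])]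
noncomputable def U_1 : Tr := (.cons [6, 3] 1 0 (.op 65 0 (.and 1 0 (.dead0 0))) (.cons [7, 4] 1 0 (.op 77 0 (.and 1 0 (.dead0 0))) (.cons [2, 3] 0 0 (.op 5 0 (.and 1 0 (.dead0 0))) (.cons [2, 2] 0 0 (.op 5 0 (.and 1 0 (.dead0 0))) (.cons [3, 3] 1 0 (.op 77 0 (.and 1 0 (.dead0 0))) (.cons [2, 4] 1 0 (.op 77 0 (.and 1 0 (.dead0 0))) (.cons [12, 4] 1 0 (.op 32 0 (.and 1 0 (.dead0 0))) (.cons [3, 1] 1 0 (.op 5 0 (.and 1 0 (.dead0 0))) (.cons [10, 1] 1 0 (.op 71 0 (.and 1 0 (.dead0 0))) (.cons [4, 2] 0 0 (.op 8 0 (.and 1 0 (.dead0 0))) (.cons [12, 1] 1 0 (.op 65 0 (.and 1 0 (.dead0 0))) (.cons [9, 12, 3] 0 0 (.op 14 0 (.and 1 0 (.dead0 0))) (.cons [10, 7, 1] 0 0 (.op 5 0 (.and 1 0 (.dead0 0))) (.cons [9, 1, 1] 1 0 (.op 65 0 (.and 1 0 (.dead0 0))) (.cons [6, 4, 1] 1 0 (.op 77 0 (.and 1 0 (.dead0 0))) (.cons [8, 1, 1] 1 0 (.op 77 0 (.and 1 0 (.dead0 0))) (.cons [2, 6, 4] 1 0 (.op 41 0 (.and 1 0 (.dead0 0))) (.cons [13,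 1, 1] 1 0 (.op 32 0 (.and 1 0 (.dead0 0))) (.cons [1, 5, 1] 1 0 (.op 65 0 (.and 1 0 (.dead0 0))) (.cons [11, 5, 2] 0 0 (.op 5 0 (.and 1 0 (.dead0 0))) (.cons [11, 5, 1] 0 0 (.op 5 0 (.and 1 0 (.dead0 0))) (.cons [12, 5, 1] 0 0 (.op 5 0 (.and 1 0 (.dead0 0))) (.cons [1, 9, 1] 1 0 (.op 41 0 (.and 1 0 (.dead0 0))) (.cons [2, 7, 1] 0 0 (.op 5 0 (.and 1 0 (.dead0 0))) (.cons [8, 5, 1] 1 0 (.op 41 0 (.and 1 0 (.dead0 0))) (.cons [14, 7, 1] 1 0 (.op 41 0 (.and 1 0 (.dead0 0))) (.cons [2, 7, 3] 0 0 (.op 5 0 (.and 1 0 (.dead0 0))) (.cons [6, 10, 4] 1 0 (.op 77 0 (.and 1 0 (.dead0 0))) (.cons [2, 12, 3] 0 0 (.op 8 0 (.and 1 0 (.dead0 0))) (.cons [14, 5, 2] 1 0 (.op 71 0 (.and 1 0 (.dead0 0))) (.cons [14, 5, 1] 0 0 (.op 14 0 (.and 1 0 (.dead0 0))) (.cons [1, 7, 1] 0 0 (.op 5 0 (.and 1 0 (.dead0 0))) (.cons [2, 4, 1] 1 0 (.op 77 0 (.and 1 0 (.dead0 0))) (.cons [13, 5, 1] 0 0 (.op 8 0 (.and 1 0 (.dead0 0))) (.cons [10, 6,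 4] 1 0 (.op 77 0 (.and 1 0 (.dead0 0))) (.cons [9, 11, 3] 0 0 (.op 5 0 (.and 1 0 (.dead0 0))) (.cons [10, 14, 1] 1 0 (.op 71 0 (.and 1 0 (.dead0 0))) (.cons [5, 5, 1] 0 0 (.op 5 0 (.and 1 0 (.dead0 0))) (.cons [3, 8, 2] 0 0 (.op 11 0 (.and 1 0 (.dead0 0))) (.cons [8, 1, 4] 0 0 (.op 5 0 (.and 1 0 (.dead0 0))) .nil))))))))))))))))))))))))))))))))))))))))
noncomputable def U : Tr := (.sym [[1]] (.cons [] 1 1 (.op 10 0 (.op 10 0 (.focus 0 (.cons [] 0 1 (.op 22 2 (.focus 0 (.cons [] 0 1 (.focus 4 (.cons [] 0 1 .triv .nil)) .nil))) .nil)))) (.cons [1] 1 0 (.op 32 0 (.and 1 0 (.dead0 0))) (.cons [4] 1 0 (.op 5 0 (.and 1 0 (.dead0 0))) (.cons [3] 1 0 (.op 80 0 (.base (nat_lit 0xebfcea2c6eb8307fb5bc7ef75) (.and 1 0 (.op 4 1 (.and 1 0 (.op 10 3 (.and 1 0 (.dead 0)))))))) (.cons [5, 1] 0 0 (.op 8 0 (.and 1 0 (.dead0 0))) (.cons [1, 1] 1 0 (.op 77 0 (.and 1 0 (.dead0 0))) (.cons [12, 3] 1 0 (.op 83 0 (.base (nat_lit 0xebfcea2c6eb8307fb5bc7ef75)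 (.and 1 0 (.op 4 1 (.and 1 0 (.op 10 3 (.and 1 0 (.dead 0)))))))) (.cons [7, 1] 1 0 (.op 77 0 (.and 1 0 (.dead0 0))) (.cons [14, 1] 1 0 (.op 77 0 (.and 1 0 (.dead0 0))) (.cons [1, 4] 1 0 (.op 32 0 (.and 1 0 (.dead0 0))) (.cons [5, 2] 1 0 (.op 71 0 (.and 1 0 (.dead0 0))) (.cons [10, 4] 1 0 (.op 77 0 (.and 1 0 (.dead0 0))) (.cons [4, 1] 1 0 (.op 77 0 (.and 1 0 (.dead0 0))) (.cons [11, 3] 1 0 (.op 83 0 (.base (nat_lit 0xebfcea2c6eb8307fb5bc7ef75) (.and 1 0 (.op 4 1 (.and 1 0 (.op 10 3 (.and 1 0 (.dead 0)))))))) (.cons [5, 4] 1 0 (.op 5 0 (.and 1 0 (.dead0 0))) (.cons [9, 1] 0 0 (.op 11 0 (.and 1 0 (.dead0 0))) (.cons [6, 4] 1 0 (.op 5 0 (.and 1 0 (.dead0 0))) (.cons [8, 2] 1 0 (.op 77 0 (.and 1 0 (.dead0 0))) (.cons [8, 1] 1 0 (.op 77 0 (.and 1 0 (.dead0 0))) (.cons [3, 2] 1 0 (.op 77 0 (.and 1 0 (.dead0 0))) U_1)))))))))))))))))))))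
noncomputable def UK : List (List Nat) := [[27]]
noncomputable def UF : List (List Nat) := [[], [1], [3], [5], [7], [4], [6], [8], [3, 1], [5, 1], [7, 1], [4, 1], [6, 1], [8, 1], [3, 3], [5, 3], [7, 3], [6, 3], [8, 3], [7, 5], [8, 5], [3, 3, 1], [5, 3, 1], [7, 3, 1], [6, 3, 1], [8, 3, 1], [7, 5, 1], [8, 5, 1], [7, 5, 3], [8, 5, 3], [7, 5, 3, 1], [8, 5, 3, 1]]
noncomputable def qs : List (List Nat) := [[27, 25, 21, 19, 15], [25, 23, 21, 19, 17], [23, 17], [25, 21, 19]]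
noncomputable def us : List (List (List Nat)) := [[[8, 1], [7, 3], [8, 5, 3, 1], [7]], [[7, 5, 3], [3], [6, 3], [5, 1]], [[8, 5, 3], [5, 3], [5], [4, 1]]]
noncomputable def zq : List Nat := [3, 3]
noncomputable def st : List (List Nat × List Nat × List Nat) := [([2, 13, 6, 9, 12, 10], [1], [1]), ([2, 6, 4, 13, 9, 6, 9, 11], [3], [9, 7]), ([8, 2, 10, 8, 8, 9, 13, 9], [1, 3], [7, 3]), ([3, 3, 13, 9, 6, 10, 12, 10], [2], [9, 5]), ([1, 7, 1, 13, 11, 5, 14, 12], [3, 1], [7])]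
noncomputable def fin : List (List Nat) := [[9], [6, 1], [11, 3, 1], [1], [7, 1], [9, 5, 3, 9], [11]]

end CF.Bt.FusJ2
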