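import Cfsg.Agent.Bt.Fus
import Cfsg.Agent.Bt.Pc2
import Cfsg.Agent.Bt.Salt
import Cfsg.Agent.Bt.Loc.FusJ2D
import Cfsg.Agent.J23.P2

set_option autoImplicit false
set_option maxRecDepth 1000000

namespace CF.Bt.FusJ2

open CF.Comp

theorem h1 : evsOK J23.P2.N 100 7 X ws = true := by decide +kernel
theorem h2 : slpOK (lapp X X1) 100 7 W 2 = true := by decide +kernel
theorem h3 : geOK (lapp X X1) 100 c 604800 = true := by decide +kernel
theorem t1 : stdS (lapp X X1) 100 7 c [z] [z] [] [] TF TK T 1920 = true := by decide +kernel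
theorem z1 : commW (lapp X X1) 100 7 (cgens cz) [z] = true := by decide +kernel
theorem z2 : geOK (lapp X X1) 100 cz 1920 = true := by decide +kernel
theorem z3 : lall (wordIn cs) (cgens cz) = true := by decide +kernel
theorem s1 : lall (wordIn ss) (cgens cS) = true := by decide +kernel
theorem s2 : geOK (lapp X X1) 100 cS (2 ^ 7) = true := by decide +kernel
theorem f1 : fsOK (sameW (lapp X X1) 100 7) (difW (lapp X X1) 100 7) ss z pc st fin = true := by decide +kernel
theorem f2 : lall (wordIn ss) qs = true := by decide +kernel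
theorem f3 : nrmAll (sameW (lapp X X1) 100 7) qs cs us = true := by decide +kernel
theorem f4 : lall (fun c => (sameW (lapp X X1) 100 7) (wpow c (2 ^ 3)) []) cs = true := by decide +kernel
theorem t2 : stdS (lapp X X1) 100 7 c qs qs [] [] UF UK U 2 = true := by decide +kernel
theorem f5 : cen2OK (sameW (lapp X X1) 100 7) (difW (lapp X X1) 100 7) qs z zq = true := by decide +kernel

theorem main {K : Type*} [Group K] (e : K ≃* PG J23.P2.N) (S : Sylow 2 K) :
    (Cfsg.groupFusionSystem (S : Subgroup K)).IsSimple 2 := by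
  obtain ⟨hE, hg⟩ := Exact.fresh J23.P2.exactP (by decide) (fun _ _ => trivial) h1 (m := 2) rfl h2 (Subgroup.card_top.trans J23.P2.cardP) h3
  have := Exact.finite_top hE
  have hZ := cent_of hE (by decide) (by decide) (std_of_S t1) z1 z2
  have he := eqv_sameW hE.reps (k := 7) (by decide) hE.faithful
  have hn := nev_difW hE.reps (by decide) 7
  obtain ⟨a, c⟩ := fs_cent he hn f1 (hZ.eq_clo.ge.trans (clo_le_of_wordIn z3)) f2 f3 f4
    (cent_le_of_two he hn f5 (card_cent_clo_le hE (by decide) (by decide) (std_of_S t2)))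
  have hS := (c.card (by decide) hE.reps (by decide) rfl s1 s2).1
  have hG : _ = 2 ^ 7 * 4725 := J23.P2.cardP.trans (by norm_num)
  exact a.simple_all hS hG (by norm_num) e S

end CF.Bt.FusJ2
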