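import Cfsg.Agent.Bt.Defs

set_option autoImplicit false
set_option maxRecDepth 1000000

namespace CF.Bt.FusM11

open CF.Comp

noncomputable def X_0 : Net := (Net.cons (nat_lit 1) (nat_lit 1310784) (Net.cons (nat_lit 2) (nat_lit 197136) (Net.cons (nat_lit 4) (nat_lit 852480) (Net.cons (nat_lit 8) (nat_lit 96) (Net.cons (nat_lit 16) (nat_lit 240) (Net.cons (nat_lit 8) (nat_lit 144) (Net.cons (nat_lit 4) (nat_lit 789764) (Net.cons (nat_lit 2) (nat_lit 2302226) (Net.cons (nat_lit 1) (nat_lit 4521988) Net.nil)))))))))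
noncomputable def X_1 : Net := (Net.cons (nat_lit 1) (nat_lit 1118272) (Net.cons (nat_lit 2) (nat_lit 2109728) (Net.cons (nat_lit 4) (nat_lit 133120) (Net.cons (nat_lit 8) (nat_lit 60) (Net.cons (nat_lit 16) (nat_lit 252) (Net.cons (nat_lit 8) (nat_lit 238) (Net.cons (nat_lit 4) (nat_lit 67330) (Net.cons (nat_lit 2) (nat_lit 3280898) (Net.cons (nat_lit 1) (nat_lit 1118480) Net.nil)))))))))
noncomputable def X : List Net := [X_0, X_1]
noncomputable def X1_0 : Net := (Net.cons (nat_lit 1) (nat_lit 5309700) (Net.cons (nat_lit 2) (nat_lit 1057552) (Net.cons (nat_lit 4) (nat_lit 3584) (Net.cons (nat_lit 8) (nat_lit 15) (Net.cons (nat_lit 16) (nat_lit 239) (Net.cons (nat_lit 8) (nat_lit 193) (Net.cons (nat_lit 4) (nat_lit 395276) (Net.cons (nat_lit 2) (nat_lit 74034) (Net.cons (nat_lit 1) (nat_lit 1316096) Net.nil)))))))))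
noncomputable def X1_1 : Net := (Net.cons (nat_lit 1) (nat_lit 4526096) (Net.cons (nat_lit 2) (nat_lit 3224096) (Net.cons (nat_lit 4) (nat_lit 787456) (Net.cons (nat_lit 8) (nat_lit 192) (Net.cons (nat_lit 16) (nat_lit 224) (Net.cons (nat_lit 8) (nat_lit 228) (Net.cons (nat_lit 4) (nat_lit 854280) (Net.cons (nat_lit 2) (nat_lit 2171682) (Net.cons (nat_lit 1) (nat_lit 4526096) Net.nil)))))))))
noncomputable def X1_2 : Net := (Net.cons (nat_lit 1) (nat_lit 4263936) (Net.cons (nat_lit 2) (nat_lit 2175760) (Net.cons (nat_lit 4) (nat_lit 721408) (Net.cons (nat_lit 8) (nat_lit 97) (Net.cons (nat_lit 16) (nat_lit 225) (Net.cons (nat_lit 8) (nat_lit 5) (Net.cons (nat_lit 4) (nat_lit 853250) (Net.cons (nat_lit 2) (nat_lit 2175762) (Net.cons (nat_lit 1) (nat_lit 1066004) Net.nil)))))))))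
noncomputable def X1_3 : Net := (Net.cons (nat_lit 1) (nat_lit 5509120) (Net.cons (nat_lit 2) (nat_lit 2163456) (Net.cons (nat_lit 4) (nat_lit 264192) (Net.cons (nat_lit 8) (nat_lit 123) (Net.cons (nat_lit 16) (nat_lit 123) (Net.cons (nat_lit 8) (nat_lit 87) (Net.cons (nat_lit 4) (nat_lit 986368) (Net.cons (nat_lit 2) (nat_lit 1192738) (Net.cons (nat_lit 1) (nat_lit 4461568) Net.nil)))))))))
noncomputable def X1_4 : Net := (Net.cons (nat_lit 1) (nat_lit 5324800) (Net.cons (nat_lit 2) (nat_lit 1188096) (Net.cons (nat_lit 8) (nat_lit 204) (Net.cons (nat_lit 16) (nat_lit 204) (Net.cons (nat_lit 8) (nat_lit 220) (Net.cons (nat_lit 4) (nat_lit 722944) (Net.cons (nat_lit 2) (nat_lit 1188096) (Net.cons (nat_lit 1) (nat_lit 5324804) Net.nil))))))))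
noncomputable def X1_5 : Net := (Net.cons (nat_lit 1) (nat_lit 1134656) (Net.cons (nat_lit 2) (nat_lit 131376) (Net.cons (nat_lit 4) (nat_lit 525824) (Net.cons (nat_lit 8) (nat_lit 156) (Net.cons (nat_lit 16) (nat_lit 220) (Net.cons (nat_lit 8) (nat_lit 10) (Net.cons (nat_lit 4) (nat_lit 854536) (Net.cons (nat_lit 2) (nat_lit 1184050) (Net.cons (nat_lit 1) (nat_lit 5259348) Net.nil)))))))))
noncomputable def X1_6 : Net := (Net.cons (nat_lit 1) (nat_lit 82000) (Net.cons (nat_lit 2) (nat_lit 1187840) (Net.cons (nat_lit 16) (nat_lit 92) (Net.cons (nat_lit 8) (nat_lit 192) (Net.cons (nat_lit 4) (nat_lit 134656) (Net.cons (nat_lit 2) (nat_lit 3211776) (Net.cons (nat_lit 1) (nat_lit 278864) Net.nil)))))))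
noncomputable def X1_7 : Net := (Net.cons (nat_lit 1) (nat_lit 345344) (Net.cons (nat_lit 2) (nat_lit 1057024) (Net.cons (nat_lit 4) (nat_lit 68608) (Net.cons (nat_lit 8) (nat_lit 15) (Net.cons (nat_lit 16) (nat_lit 15) (Net.cons (nat_lit 8) (nat_lit 223) (Net.cons (nat_lit 4) (nat_lit 68608) (Net.cons (nat_lit 2) (nat_lit 1057024) (Net.cons (nat_lit 1) (nat_lit 1393920) Net.nil)))))))))
noncomputable def X1_8 : Net := (Net.cons (nat_lit 1) (nat_lit 5587264) (Net.cons (nat_lit 2) (nat_lit 1061136) (Net.cons (nat_lit 4) (nat_lit 65536) (Net.cons (nat_lit 8) (nat_lit 1) (Net.cons (nat_lit 16) (nat_lit 17) (Net.cons (nat_lit 8) (nat_lit 101) (Net.cons (nat_lit 4) (nat_lit 327688) (Net.cons (nat_lit 2) (nat_lit 1192208) (Net.cons (nat_lit 1) (nat_lit 5587264) Net.nil)))))))))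
noncomputable def X1_9 : Net := (Net.cons (nat_lit 1) (nat_lit 5571840) (Net.cons (nat_lit 2) (nat_lit 2097408) (Net.cons (nat_lit 4) (nat_lit 527360) (Net.cons (nat_lit 8) (nat_lit 8) (Net.cons (nat_lit 16) (nat_lit 8) (Net.cons (nat_lit 8) (nat_lit 200) (Net.cons (nat_lit 4) (nat_lit 855552) (Net.cons (nat_lit 2) (nat_lit 3342592) (Net.cons (nat_lit 1) (nat_lit 5571844) Net.nil)))))))))
noncomputable def X1_10 : Net := (Net.cons (nat_lit 1) (nat_lit 1332544) (Net.cons (nat_lit 2) (nat_lit 2306576) (Net.cons (nat_lit 4) (nat_lit 721664) (Net.cons (nat_lit 8) (nat_lit 108) (Net.cons (nat_lit 16) (nat_lit 124) (Net.cons (nat_lit 8) (nat_lit 144) (Net.cons (nat_lit 4) (nat_lit 330250) (Net.cons (nat_lit 2) (nat_lit 78610) (Net.cons (nat_lit 1) (nat_lit 278544) Net.nil)))))))))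
noncomputable def X1_11 : Net := (Net.cons (nat_lit 1) (nat_lit 4474112) (Net.cons (nat_lit 2) (nat_lit 77824) (Net.cons (nat_lit 4) (nat_lit 263936) (Net.cons (nat_lit 8) (nat_lit 26) (Net.cons (nat_lit 16) (nat_lit 218) (Net.cons (nat_lit 8) (nat_lit 38) (Net.cons (nat_lit 4) (nat_lit 461316) (Net.cons (nat_lit 2) (nat_lit 3220272) (Net.cons (nat_lit 1) (nat_lit 4194372) Net.nil)))))))))
noncomputable def X1 : List Net := [X1_0, X1_1, X1_2, X1_3, X1_4, X1_5, X1_6, X1_7, X1_8, X1_9, X1_10, X1_11]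
noncomputable def ws : List (List Nat) := [[5, 2, 6, 9], [2, 2, 16, 6, 12, 9, 16]]
noncomputable def W : List (List Nat) := [[2, 4, 2, 2], [2, 3, 2], [5, 7, 6, 7, 5], [5, 8, 5, 8], [10, 12, 12, 9], [10, 12, 10, 11], [10, 3, 7, 16, 10], [5, 3, 8, 5, 9, 16, 10, 16, 13], [3, 5, 16, 13], [5, 3, 8, 5, 9, 16, 10, 16], [5, 3, 8, 5, 10, 10, 16, 13], [1, 8, 9, 13]]
noncomputable def c : List Lvl := [⟨(nat_lit 6), [[(nat_lit 1)],
  [(nat_lit 3)]], (nat_lit 4)⟩,
  ⟨(nat_lit 9), [[(nat_lit 5)],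
  [(nat_lit 7)]], (nat_lit 3)⟩,
  ⟨(nat_lit 10), [[(nat_lit 9)],
  [(nat_lit 11)]], (nat_lit 3)⟩,
  ⟨(nat_lit 7), [[(nat_lit 13)],
  [(nat_lit 15)]], (nat_lit 1)⟩,
  ⟨(nat_lit 15), [[(nat_lit 13)]], (nat_lit 1)⟩]
noncomputable def cz : List Lvl := [⟨(nat_lit 7), [[(nat_lit 25)],
  [(nat_lit 27)]], (nat_lit 3)⟩,
  ⟨(nat_lit 21), [[(nat_lit 27), (nat_lit 26)],
  [(nat_lit 25), (nat_lit 25), (nat_lit 27)]], (nat_lit 2)⟩]
noncomputable def cS : List Lvl := [⟨(nat_lit 8), [[(nat_lit 17)],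
  [(nat_lit 19)],
  [(nat_lit 21)],
  [(nat_lit 23)]], (nat_lit 1)⟩,
  ⟨(nat_lit 12), [[(nat_lit 21)]], (nat_lit 1)⟩]
noncomputable def T : Tr := (.base (nat_lit 340830) (.focus 0 (.sym [[1], [3]] (.cons [] 2 6 (.op 4 0 (.focus 0 (.cons [] 0 6 (.base (nat_lit 16436384) (.focus 0 (.sym [[5], [7]] (.cons [] 2 2 (.op 4 0 (.focus 0 (.cons [] 0 2 .triv .nil))) (.cons [2] 1 0 (.base (nat_lit 4196384) (.op 5 0 (.and 1 0 (.dead 0)))) (.cons [4] 1 0 (.base (nat_lit 2130048) (.op 4 1 (.and 1 0 (.dead0 0)))) (.cons [4, 2] 2 0 (.op 5 0 (.and 1 0 (.dead0 0))) (.cons [8, 4] 0 0 (.op 5 0 (.and 1 0 (.dead0 0))) .nil)))))))) .nil))) (.cons [2] 1 0 (.op 5 0 (.and 1 0 (.dead0 0))) .nil)))))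
noncomputable def TK : List (List Nat) := [[25], [27], [27, 27, 26, 28], [28, 28, 25, 27, 25]]
noncomputable def TF : List (List Nat) := [[], [1]]
noncomputable def ss : List (List Nat) := [[17], [19], [21], [23]]
noncomputable def cs : List (List Nat) := [[25], [27]]
noncomputable def z : List Nat := [23]
noncomputable def pc : List (List Nat × List (List Nat)) := [([5], [[5, 3], [5, 1], [5]]), ([], [[3, 1], [3]]), ([], [[1]]), ([], [])]
noncomputable def ts : List (List Nat) := [[25], [25, 25]]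
noncomputable def tb : List (List (Nat × List Nat)) := [[(1, []), (0, [3, 1])], [(2, []), (2, [7, 5])], [(0, [7]), (1, [7, 5, 1])]]
noncomputable def nn : List (List Nat × List Nat × Nat × Nat) := [([3], [5], 1, 3), ([5], [3], 1, 3)]
noncomputable def st : List (List Nat × List Nat × List Nat) := [([6, 12, 10, 13], [1], [5]), ([7, 6, 11, 15], [1], [3]), ([9, 16, 10, 16, 13], [3, 1], [1])]
noncomputable def fin : List (List Nat) := [[1], [3], [5], [7]]

end CF.Bt.FusM11
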