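import Cfsg.Agent.Bt.Defs

set_option autoImplicit false
set_option maxRecDepth 1000000

namespace CF.Bt.FusM12

open CF.Comp

noncomputable def X_0 : Net := (Net.cons (nat_lit 1) (nat_lit 1310980) (Net.cons (nat_lit 2) (nat_lit 8464) (Net.cons (nat_lit 4) (nat_lit 787456) (Net.cons (nat_lit 8) (nat_lit 1) (Net.cons (nat_lit 16) (nat_lit 227) (Net.cons (nat_lit 8) (nat_lit 219) (Net.cons (nat_lit 4) (nat_lit 853516) (Net.cons (nat_lit 2) (nat_lit 1057296) (Net.cons (nat_lit 1) (nat_lit 4264196) Net.nil)))))))))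
noncomputable def X_1 : Net := (Net.cons (nat_lit 1) (nat_lit 5243924) (Net.cons (nat_lit 2) (nat_lit 1253376) (Net.cons (nat_lit 4) (nat_lit 525824) (Net.cons (nat_lit 8) (nat_lit 140) (Net.cons (nat_lit 16) (nat_lit 140) (Net.cons (nat_lit 8) (nat_lit 27) (Net.cons (nat_lit 4) (nat_lit 917762) (Net.cons (nat_lit 2) (nat_lit 1048835) (Net.cons (nat_lit 1) (nat_lit 5505284) Net.nil)))))))))
noncomputable def X : List Net := [X_0, X_1]
noncomputable def X1_0 : Net := (Net.cons (nat_lit 1) (nat_lit 70656) (Net.cons (nat_lit 2) (nat_lit 1126912) (Net.cons (nat_lit 4) (nat_lit 328704) (Net.cons (nat_lit 8) (nat_lit 18) (Net.cons (nat_lit 16) (nat_lit 158) (Net.cons (nat_lit 8) (nat_lit 132) (Net.cons (nat_lit 4) (nat_lit 68621) (Net.cons (nat_lit 2) (nat_lit 3219490) (Net.cons (nat_lit 1) (nat_lit 4460545) Net.nil)))))))))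
noncomputable def X1_1 : Net := (Net.cons (nat_lit 1) (nat_lit 1064964) (Net.cons (nat_lit 2) (nat_lit 1249536) (Net.cons (nat_lit 4) (nat_lit 65536) (Net.cons (nat_lit 8) (nat_lit 1) (Net.cons (nat_lit 16) (nat_lit 181) (Net.cons (nat_lit 8) (nat_lit 67) (Net.cons (nat_lit 4) (nat_lit 592896) (Net.cons (nat_lit 2) (nat_lit 4385) (Net.cons (nat_lit 1) (nat_lit 1064960) Net.nil)))))))))
noncomputable def X1_2 : Net := (Net.cons (nat_lit 1) (nat_lit 4260096) (Net.cons (nat_lit 2) (nat_lit 3342608) (Net.cons (nat_lit 4) (nat_lit 591360) (Net.cons (nat_lit 8) (nat_lit 9) (Net.cons (nat_lit 16) (nat_lit 157) (Net.cons (nat_lit 8) (nat_lit 75) (Net.cons (nat_lit 4) (nat_lit 65805) (Net.cons (nat_lit 2) (nat_lit 2166787) (Net.cons (nat_lit 1) (nat_lit 1049920) Net.nil)))))))))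
noncomputable def X1_3 : Net := (Net.cons (nat_lit 1) (nat_lit 4263952) (Net.cons (nat_lit 2) (nat_lit 2097936) (Net.cons (nat_lit 4) (nat_lit 2304) (Net.cons (nat_lit 8) (nat_lit 66) (Net.cons (nat_lit 16) (nat_lit 214) (Net.cons (nat_lit 8) (nat_lit 240) (Net.cons (nat_lit 4) (nat_lit 199680) (Net.cons (nat_lit 2) (nat_lit 1183761) (Net.cons (nat_lit 1) (nat_lit 4195413) Net.nil)))))))))
noncomputable def X1_4 : Net := (Net.cons (nat_lit 1) (nat_lit 4456512) (Net.cons (nat_lit 2) (nat_lit 2174976) (Net.cons (nat_lit 4) (nat_lit 328704) (Net.cons (nat_lit 8) (nat_lit 136) (Net.cons (nat_lit 16) (nat_lit 201) (Net.cons (nat_lit 8) (nat_lit 134) (Net.cons (nat_lit 4) (nat_lit 788749) (Net.cons (nat_lit 2) (nat_lit 3154193) (Net.cons (nat_lit 1) (nat_lit 4457536) Net.nil)))))))))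
noncomputable def X1_5 : Net := (Net.cons (nat_lit 1) (nat_lit 332880) (Net.cons (nat_lit 2) (nat_lit 131104) (Net.cons (nat_lit 4) (nat_lit 524544) (Net.cons (nat_lit 8) (nat_lit 4) (Net.cons (nat_lit 16) (nat_lit 132) (Net.cons (nat_lit 8) (nat_lit 37) (Net.cons (nat_lit 4) (nat_lit 525576) (Net.cons (nat_lit 2) (nat_lit 3145761) (Net.cons (nat_lit 1) (nat_lit 1380689) Net.nil)))))))))
noncomputable def X1_6 : Net := (Net.cons (nat_lit 1) (nat_lit 279616) (Net.cons (nat_lit 2) (nat_lit 3346960) (Net.cons (nat_lit 4) (nat_lit 985344) (Net.cons (nat_lit 8) (nat_lit 104) (Net.cons (nat_lit 16) (nat_lit 120) (Net.cons (nat_lit 8) (nat_lit 252) (Net.cons (nat_lit 4) (nat_lit 919821) (Net.cons (nat_lit 2) (nat_lit 1250050) (Net.cons (nat_lit 1) (nat_lit 1328192) Net.nil)))))))))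
noncomputable def X1_7 : Net := (Net.cons (nat_lit 1) (nat_lit 5120) (Net.cons (nat_lit 2) (nat_lit 1184256) (Net.cons (nat_lit 4) (nat_lit 461824) (Net.cons (nat_lit 8) (nat_lit 90) (Net.cons (nat_lit 16) (nat_lit 255) (Net.cons (nat_lit 8) (nat_lit 165) (Net.cons (nat_lit 4) (nat_lit 525071) (Net.cons (nat_lit 2) (nat_lit 1249793) (Net.cons (nat_lit 1) (nat_lit 5120) Net.nil)))))))))
noncomputable def X1_8 : Net := (Net.cons (nat_lit 1) (nat_lit 1131540) (Net.cons (nat_lit 2) (nat_lit 139312) (Net.cons (nat_lit 4) (nat_lit 1024) (Net.cons (nat_lit 8) (nat_lit 12) (Net.cons (nat_lit 16) (nat_lit 30) (Net.cons (nat_lit 8) (nat_lit 147) (Net.cons (nat_lit 4) (nat_lit 592649) (Net.cons (nat_lit 2) (nat_lit 3285763) (Net.cons (nat_lit 1) (nat_lit 4460865) Net.nil)))))))))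
noncomputable def X1_9 : Net := (Net.cons (nat_lit 1) (nat_lit 1114368) (Net.cons (nat_lit 2) (nat_lit 768) (Net.cons (nat_lit 4) (nat_lit 786944) (Net.cons (nat_lit 8) (nat_lit 161) (Net.cons (nat_lit 16) (nat_lit 227) (Net.cons (nat_lit 8) (nat_lit 169) (Net.cons (nat_lit 4) (nat_lit 786944) (Net.cons (nat_lit 2) (nat_lit 801) (Net.cons (nat_lit 1) (nat_lit 1114368) Net.nil)))))))))
noncomputable def X1_10 : Net := (Net.cons (nat_lit 1) (nat_lit 5188) (Net.cons (nat_lit 2) (nat_lit 256) (Net.cons (nat_lit 4) (nat_lit 2304) (Net.cons (nat_lit 8) (nat_lit 192) (Net.cons (nat_lit 16) (nat_lit 192) (Net.cons (nat_lit 8) (nat_lit 237) (Net.cons (nat_lit 4) (nat_lit 133386) (Net.cons (nat_lit 2) (nat_lit 8482) (Net.cons (nat_lit 1) (nat_lit 5188) Net.nil)))))))))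
noncomputable def X1_11 : Net := (Net.cons (nat_lit 1) (nat_lit 324) (Net.cons (nat_lit 2) (nat_lit 3145728) (Net.cons (nat_lit 4) (nat_lit 264192) (Net.cons (nat_lit 8) (nat_lit 132) (Net.cons (nat_lit 16) (nat_lit 132) (Net.cons (nat_lit 8) (nat_lit 189) (Net.cons (nat_lit 4) (nat_lit 395531) (Net.cons (nat_lit 2) (nat_lit 3153954) (Net.cons (nat_lit 1) (nat_lit 1049924) Net.nil)))))))))
noncomputable def X1_12 : Net := (Net.cons (nat_lit 1) (nat_lit 327744) (Net.cons (nat_lit 2) (nat_lit 288) (Net.cons (nat_lit 4) (nat_lit 262144) (Net.cons (nat_lit 8) (nat_lit 1) (Net.cons (nat_lit 16) (nat_lit 65) (Net.cons (nat_lit 8) (nat_lit 129) (Net.cons (nat_lit 4) (nat_lit 262146) (Net.cons (nat_lit 2) (nat_lit 2228513) (Net.cons (nat_lit 1) (nat_lit 331840) Net.nil)))))))))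
noncomputable def X1_13 : Net := (Net.cons (nat_lit 1) (nat_lit 1310992) (Net.cons (nat_lit 2) (nat_lit 1188128) (Net.cons (nat_lit 4) (nat_lit 264704) (Net.cons (nat_lit 8) (nat_lit 130) (Net.cons (nat_lit 16) (nat_lit 167) (Net.cons (nat_lit 8) (nat_lit 187) (Net.cons (nat_lit 4) (nat_lit 781) (Net.cons (nat_lit 2) (nat_lit 3146512) (Net.cons (nat_lit 1) (nat_lit 1052753) Net.nil)))))))))
noncomputable def X1_14 : Net := (Net.cons (nat_lit 1) (nat_lit 1134608) (Net.cons (nat_lit 2) (nat_lit 8480) (Net.cons (nat_lit 4) (nat_lit 330240) (Net.cons (nat_lit 8) (nat_lit 90) (Net.cons (nat_lit 16) (nat_lit 122) (Net.cons (nat_lit 8) (nat_lit 98) (Net.cons (nat_lit 4) (nat_lit 459528) (Net.cons (nat_lit 2) (nat_lit 3347200) (Net.cons (nat_lit 1) (nat_lit 4276496) Net.nil)))))))))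
noncomputable def X1 : List Net := [X1_0, X1_1, X1_2, X1_3, X1_4, X1_5, X1_6, X1_7, X1_8, X1_9, X1_10, X1_11, X1_12, X1_13, X1_14]
noncomputable def ws : List (List Nat) := [[7, 6, 10], [8, 1, 14, 5, 19, 12, 14, 19]]
noncomputable def W : List (List Nat) := [[3, 3, 2], [1, 1, 1, 3], [7, 6, 8, 6, 6], [8, 8, 5], [10, 12, 9, 9, 9], [12, 12, 10, 10], [13, 16, 13, 16, 13], [8, 3, 12, 5, 18, 9], [6, 3, 6, 6, 18, 9, 17], [6, 3, 6, 6, 10, 18, 14, 18, 18], [3, 5, 9, 9, 17, 15, 15, 13], [3, 5, 11, 9, 17, 16, 18], [3, 5, 10, 17, 15, 14, 16, 18], [2, 8, 16, 11, 15, 15, 17], [2, 8, 11, 9, 17, 15, 17]]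
noncomputable def c : List Lvl := [⟨(nat_lit 15), [[(nat_lit 1)],
  [(nat_lit 3)]], (nat_lit 3)⟩,
  ⟨(nat_lit 5), [[(nat_lit 5)],
  [(nat_lit 7)]], (nat_lit 3)⟩,
  ⟨(nat_lit 17), [[(nat_lit 9)],
  [(nat_lit 11)]], (nat_lit 3)⟩,
  ⟨(nat_lit 10), [[(nat_lit 13)],
  [(nat_lit 15)]], (nat_lit 3)⟩,
  ⟨(nat_lit 6), [[(nat_lit 15), (nat_lit 13)],
  [(nat_lit 17)]], (nat_lit 2)⟩]
noncomputable def cz : List Lvl := [⟨(nat_lit 18), [[(nat_lit 31)],
  [(nat_lit 33)]], (nat_lit 4)⟩,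
  ⟨(nat_lit 10), [[(nat_lit 34), (nat_lit 31)],
  [(nat_lit 31), (nat_lit 33), (nat_lit 32)]], (nat_lit 2)⟩,
  ⟨(nat_lit 1), [[(nat_lit 31), (nat_lit 33), (nat_lit 32), (nat_lit 34), (nat_lit 31)],
  [(nat_lit 33), (nat_lit 33), (nat_lit 31), (nat_lit 31), (nat_lit 31), (nat_lit 31)]], (nat_lit 1)⟩]
noncomputable def cS : List Lvl := [⟨(nat_lit 21), [[(nat_lit 19)],
  [(nat_lit 21)],
  [(nat_lit 23)],
  [(nat_lit 25)],
  [(nat_lit 27)],
  [(nat_lit 29)]], (nat_lit 1)⟩,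
  ⟨(nat_lit 4), [[(nat_lit 23)],
  [(nat_lit 27), (nat_lit 21)]], (nat_lit 2)⟩,
  ⟨(nat_lit 0), [[(nat_lit 23)]], (nat_lit 1)⟩]
noncomputable def T : Tr := (.base (nat_lit 16436384) (.focus 0 (.sym [[1], [3]] (.cons [] 2 24 (.op 4 0 (.focus 0 (.cons [] 0 24 (.base (nat_lit 16403584) (.focus 0 (.sym [[5], [7], [9]] (.cons [] 1 4 (.focus 1 (.op 4 0 (.focus 0 (.cons [] 0 4 (.base (nat_lit 863) (.focus 0 (.sym [[11], [13]] (.cons [] 1 1 .triv (.cons [4] 1 0 (.op 5 0 (.and 1 0 (.dead0 0))) .nil))))) .nil)))) (.cons [12, 1] 2 0 (.op 5 0 (.and 1 0 (.dead0 0))) .nil))))) .nil))) (.cons [1] 2 0 (.op 5 0 (.and 1 0 (.dead0 0))) .nil)))))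
noncomputable def TK : List (List Nat) := [[31], [33], [32, 33], [31, 33, 33, 32], [31, 31, 34, 31, 33], [33, 33, 31, 31, 31, 31], [31, 31, 34, 31, 31]]
noncomputable def TF : List (List Nat) := [[], [1]]
noncomputable def ss : List (List Nat) := [[19], [21], [23], [25], [27], [29]]
noncomputable def cs : List (List Nat) := [[31], [33]]
noncomputable def z : List Nat := [29]
noncomputable def pc : List (List Nat × List (List Nat)) := [([], [[9, 1], [9, 7], [7, 5, 3], [9, 3], [9]]), ([], [[5, 3, 1], [7, 5], [7, 3], [7]]), ([], [[5, 1], [5, 3], [5]]), ([], [[1], [3]]), ([], [[1]]), ([], [])]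
noncomputable def ts : List (List Nat) := [[33], [31, 33]]
noncomputable def tb : List (List (Nat × List Nat)) := [[(0, [11, 7, 1]), (1, [])], [(2, []), (0, [7, 5, 3])], [(1, [11, 9, 7, 1]), (2, [11, 5, 3])]]
noncomputable def nn : List (List Nat × List Nat × Nat × Nat) := [([7], [5], 1, 3), ([9], [5], 1, 3)]
noncomputable def st : List (List Nat × List Nat × List Nat) := [([6, 15, 10, 15, 15, 13, 18], [1], [5]), ([8, 12, 9, 14, 16, 18], [1], [7]), ([7, 15, 15, 18], [3], [9]), ([18], [7], [7, 5, 3]), ([15, 13, 18], [5, 7, 1], [1])]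
noncomputable def fin : List (List Nat) := [[1], [9, 7, 3], [9], [7], [5], [11]]

end CF.Bt.FusM12
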