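import Cfsg.Agent.Bt.Defs

set_option autoImplicit false
set_option maxRecDepth 1000000

namespace CF.Bt.FusM22

open CF.Comp

noncomputable def X_0 : Net := (Net.cons (nat_lit 1) (nat_lit 20804) (Net.cons (nat_lit 2) (nat_lit 2162944) (Net.cons (nat_lit 4) (nat_lit 2048) (Net.cons (nat_lit 8) (nat_lit 193) (Net.cons (nat_lit 16) (nat_lit 223) (Net.cons (nat_lit 8) (nat_lit 25) (Net.cons (nat_lit 4) (nat_lit 854542) (Net.cons (nat_lit 2) (nat_lit 2229008) (Net.cons (nat_lit 1) (nat_lit 1393984) Net.nil)))))))))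
noncomputable def X_1 : Net := (Net.cons (nat_lit 1) (nat_lit 4096) (Net.cons (nat_lit 2) (nat_lit 1249280) (Net.cons (nat_lit 4) (nat_lit 131072) (Net.cons (nat_lit 8) (nat_lit 24) (Net.cons (nat_lit 16) (nat_lit 94) (Net.cons (nat_lit 8) (nat_lit 178) (Net.cons (nat_lit 4) (nat_lit 393222) (Net.cons (nat_lit 2) (nat_lit 1187888) (Net.cons (nat_lit 1) (nat_lit 282628) Net.nil)))))))))
noncomputable def X : List Net := [X_0, X_1]
noncomputable def X1_0 : Net := (Net.cons (nat_lit 1) (nat_lit 1052736) (Net.cons (nat_lit 2) (nat_lit 528) (Net.cons (nat_lit 4) (nat_lit 854016) (Net.cons (nat_lit 8) (nat_lit 16) (Net.cons (nat_lit 16) (nat_lit 182) (Net.cons (nat_lit 8) (nat_lit 40) (Net.cons (nat_lit 4) (nat_lit 721166) (Net.cons (nat_lit 2) (nat_lit 204834) (Net.cons (nat_lit 1) (nat_lit 1119296) Net.nil)))))))))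
noncomputable def X1_1 : Net := (Net.cons (nat_lit 1) (nat_lit 5264640) (Net.cons (nat_lit 2) (nat_lit 1114400) (Net.cons (nat_lit 4) (nat_lit 524288) (Net.cons (nat_lit 8) (nat_lit 65) (Net.cons (nat_lit 16) (nat_lit 207) (Net.cons (nat_lit 8) (nat_lit 27) (Net.cons (nat_lit 4) (nat_lit 524800) (Net.cons (nat_lit 2) (nat_lit 1118466) (Net.cons (nat_lit 1) (nat_lit 5592068) Net.nil)))))))))
noncomputable def X1_2 : Net := (Net.cons (nat_lit 1) (nat_lit 344064) (Net.cons (nat_lit 2) (nat_lit 200992) (Net.cons (nat_lit 4) (nat_lit 329216) (Net.cons (nat_lit 8) (nat_lit 82) (Net.cons (nat_lit 16) (nat_lit 90) (Net.cons (nat_lit 8) (nat_lit 50) (Net.cons (nat_lit 4) (nat_lit 328456) (Net.cons (nat_lit 2) (nat_lit 1179920) (Net.cons (nat_lit 1) (nat_lit 1069136) Net.nil)))))))))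
noncomputable def X1_3 : Net := (Net.cons (nat_lit 1) (nat_lit 5588288) (Net.cons (nat_lit 2) (nat_lit 2240512) (Net.cons (nat_lit 4) (nat_lit 786432) (Net.cons (nat_lit 8) (nat_lit 17) (Net.cons (nat_lit 16) (nat_lit 217) (Net.cons (nat_lit 8) (nat_lit 75) (Net.cons (nat_lit 4) (nat_lit 460808) (Net.cons (nat_lit 2) (nat_lit 205106) (Net.cons (nat_lit 1) (nat_lit 4538624) Net.nil)))))))))
noncomputable def X1_4 : Net := (Net.cons (nat_lit 1) (nat_lit 1134928) (Net.cons (nat_lit 2) (nat_lit 12800) (Net.cons (nat_lit 4) (nat_lit 918784) (Net.cons (nat_lit 8) (nat_lit 2) (Net.cons (nat_lit 16) (nat_lit 226) (Net.cons (nat_lit 8) (nat_lit 90) (Net.cons (nat_lit 4) (nat_lit 920578) (Net.cons (nat_lit 2) (nat_lit 78608) (Net.cons (nat_lit 1) (nat_lit 348432) Net.nil)))))))))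
noncomputable def X1_5 : Net := (Net.cons (nat_lit 1) (nat_lit 5260608) (Net.cons (nat_lit 2) (nat_lit 1052672) (Net.cons (nat_lit 4) (nat_lit 263424) (Net.cons (nat_lit 8) (nat_lit 11) (Net.cons (nat_lit 16) (nat_lit 235) (Net.cons (nat_lit 8) (nat_lit 83) (Net.cons (nat_lit 4) (nat_lit 656394) (Net.cons (nat_lit 2) (nat_lit 3216176) (Net.cons (nat_lit 1) (nat_lit 4539664) Net.nil)))))))))
noncomputable def X1_6 : Net := (Net.cons (nat_lit 1) (nat_lit 4277520) (Net.cons (nat_lit 2) (nat_lit 1114112) (Net.cons (nat_lit 4) (nat_lit 593152) (Net.cons (nat_lit 8) (nat_lit 20) (Net.cons (nat_lit 16) (nat_lit 60) (Net.cons (nat_lit 8) (nat_lit 196) (Net.cons (nat_lit 4) (nat_lit 330754) (Net.cons (nat_lit 2) (nat_lit 3212050) (Net.cons (nat_lit 1) (nat_lit 4277520) Net.nil)))))))))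
noncomputable def X1_7 : Net := (Net.cons (nat_lit 1) (nat_lit 344388) (Net.cons (nat_lit 2) (nat_lit 4096) (Net.cons (nat_lit 4) (nat_lit 512) (Net.cons (nat_lit 8) (nat_lit 10) (Net.cons (nat_lit 16) (nat_lit 42) (Net.cons (nat_lit 8) (nat_lit 138) (Net.cons (nat_lit 4) (nat_lit 772) (Net.cons (nat_lit 2) (nat_lit 69634) (Net.cons (nat_lit 1) (nat_lit 344388) Net.nil)))))))))
noncomputable def X1_8 : Net := (Net.cons (nat_lit 1) (nat_lit 1310784) (Net.cons (nat_lit 2) (nat_lit 73760) (Net.cons (nat_lit 4) (nat_lit 524288) (Net.cons (nat_lit 8) (nat_lit 2) (Net.cons (nat_lit 16) (nat_lit 134) (Net.cons (nat_lit 8) (nat_lit 192) (Net.cons (nat_lit 4) (nat_lit 592394) (Net.cons (nat_lit 2) (nat_lit 197122) (Net.cons (nat_lit 1) (nat_lit 1310784) Net.nil)))))))))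
noncomputable def X1_9 : Net := (Net.cons (nat_lit 1) (nat_lit 1052672) (Net.cons (nat_lit 2) (nat_lit 12288) (Net.cons (nat_lit 4) (nat_lit 328960) (Net.cons (nat_lit 8) (nat_lit 3) (Net.cons (nat_lit 16) (nat_lit 67) (Net.cons (nat_lit 8) (nat_lit 31) (Net.cons (nat_lit 4) (nat_lit 329986) (Net.cons (nat_lit 2) (nat_lit 12288) (Net.cons (nat_lit 1) (nat_lit 1049604) Net.nil)))))))))
noncomputable def X1_10 : Net := (Net.cons (nat_lit 1) (nat_lit 64) (Net.cons (nat_lit 2) (nat_lit 73760) (Net.cons (nat_lit 4) (nat_lit 526336) (Net.cons (nat_lit 8) (nat_lit 160) (Net.cons (nat_lit 16) (nat_lit 164) (Net.cons (nat_lit 8) (nat_lit 248) (Net.cons (nat_lit 4) (nat_lit 526338) (Net.cons (nat_lit 2) (nat_lit 1122336) (Net.cons (nat_lit 1) (nat_lit 64) Net.nil)))))))))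
noncomputable def X1_11 : Net := (Net.cons (nat_lit 1) (nat_lit 279872) (Net.cons (nat_lit 2) (nat_lit 2097184) (Net.cons (nat_lit 4) (nat_lit 526336) (Net.cons (nat_lit 8) (nat_lit 8) (Net.cons (nat_lit 16) (nat_lit 136) (Net.cons (nat_lit 8) (nat_lit 92) (Net.cons (nat_lit 4) (nat_lit 526338) (Net.cons (nat_lit 2) (nat_lit 2163232) (Net.cons (nat_lit 1) (nat_lit 279872) Net.nil)))))))))
noncomputable def X1_12 : Net := (Net.cons (nat_lit 1) (nat_lit 1119232) (Net.cons (nat_lit 2) (nat_lit 1049088) (Net.cons (nat_lit 4) (nat_lit 65536) (Net.cons (nat_lit 8) (nat_lit 16) (Net.cons (nat_lit 16) (nat_lit 84) (Net.cons (nat_lit 8) (nat_lit 152) (Net.cons (nat_lit 4) (nat_lit 328710) (Net.cons (nat_lit 2) (nat_lit 1180160) (Net.cons (nat_lit 1) (nat_lit 1119232) Net.nil)))))))))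
noncomputable def X1_13 : Net := (Net.cons (nat_lit 1) (nat_lit 80) (Net.cons (nat_lit 2) (nat_lit 139808) (Net.cons (nat_lit 4) (nat_lit 855040) (Net.cons (nat_lit 8) (nat_lit 162) (Net.cons (nat_lit 16) (nat_lit 242) (Net.cons (nat_lit 8) (nat_lit 174) (Net.cons (nat_lit 4) (nat_lit 986626) (Net.cons (nat_lit 2) (nat_lit 205360) (Net.cons (nat_lit 1) (nat_lit 80) Net.nil)))))))))
noncomputable def X1_14 : Net := (Net.cons (nat_lit 1) (nat_lit 69648) (Net.cons (nat_lit 2) (nat_lit 2170880) (Net.cons (nat_lit 4) (nat_lit 526592) (Net.cons (nat_lit 8) (nat_lit 86) (Net.cons (nat_lit 16) (nat_lit 94) (Net.cons (nat_lit 8) (nat_lit 224) (Net.cons (nat_lit 4) (nat_lit 786956) (Net.cons (nat_lit 2) (nat_lit 3224322) (Net.cons (nat_lit 1) (nat_lit 345408) Net.nil)))))))))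
noncomputable def X1_15 : Net := (Net.cons (nat_lit 1) (nat_lit 16400) (Net.cons (nat_lit 2) (nat_lit 2302720) (Net.cons (nat_lit 4) (nat_lit 327936) (Net.cons (nat_lit 8) (nat_lit 2) (Net.cons (nat_lit 16) (nat_lit 218) (Net.cons (nat_lit 8) (nat_lit 114) (Net.cons (nat_lit 4) (nat_lit 855558) (Net.cons (nat_lit 2) (nat_lit 3346720) (Net.cons (nat_lit 1) (nat_lit 278788) Net.nil)))))))))
noncomputable def X1 : List Net := [X1_0, X1_1, X1_2, X1_3, X1_4, X1_5, X1_6, X1_7, X1_8, X1_9, X1_10, X1_11, X1_12, X1_13, X1_14, X1_15]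
noncomputable def ws : List (List Nat) := [[12, 1, 5, 9, 9, 21, 25, 19, 23], [1, 4, 13, 5, 9, 9, 15, 25, 19, 23]]
noncomputable def W : List (List Nat) := [[3, 3, 2, 2], [2, 2, 3, 1, 1], [7, 6, 8, 6], [6, 6, 8, 8, 6], [9, 12, 10, 12, 9, 11, 9], [9, 11, 10, 11, 10], [12, 10, 11], [1, 9, 5, 10, 14, 17], [8, 4, 16, 9, 5, 12, 10, 14, 17, 13, 15], [8, 1, 7, 6, 15, 9, 15, 17], [8, 4, 16, 9, 5, 18, 9, 13, 13, 15], [8, 1, 7, 6, 12, 13], [16, 4, 10, 17, 14, 16, 14], [1, 3, 5, 5, 11, 10, 16, 17, 13, 15], [2, 4, 9, 6, 18, 11, 16, 13, 15], [1, 4, 17, 6, 15, 9, 17, 14, 16, 14]]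
noncomputable def c : List Lvl := [⟨(nat_lit 14), [[(nat_lit 1)],
  [(nat_lit 3)]], (nat_lit 5)⟩,
  ⟨(nat_lit 2), [[(nat_lit 5)],
  [(nat_lit 7)]], (nat_lit 5)⟩,
  ⟨(nat_lit 13), [[(nat_lit 9)],
  [(nat_lit 11)]], (nat_lit 4)⟩,
  ⟨(nat_lit 3), [[(nat_lit 13)],
  [(nat_lit 15)],
  [(nat_lit 17)]], (nat_lit 2)⟩,
  ⟨(nat_lit 9), [[(nat_lit 13), (nat_lit 15)]], (nat_lit 2)⟩]
noncomputable def cz : List Lvl := [⟨(nat_lit 1), [[(nat_lit 33)],
  [(nat_lit 35)]], (nat_lit 5)⟩,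
  ⟨(nat_lit 7), [[(nat_lit 35), (nat_lit 33)],
  [(nat_lit 36), (nat_lit 33), (nat_lit 33), (nat_lit 33)]], (nat_lit 3)⟩,
  ⟨(nat_lit 5), [[(nat_lit 35), (nat_lit 34), (nat_lit 34), (nat_lit 35)]], (nat_lit 2)⟩]
noncomputable def cS : List Lvl := [⟨(nat_lit 5), [[(nat_lit 19)],
  [(nat_lit 21)],
  [(nat_lit 23)],
  [(nat_lit 25)],
  [(nat_lit 27)],
  [(nat_lit 29)],
  [(nat_lit 31)]], (nat_lit 1)⟩,
  ⟨(nat_lit 19), [[(nat_lit 25)],
  [(nat_lit 29), (nat_lit 23)]], (nat_lit 2)⟩]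
noncomputable def T : Tr := (.op 2 0 (.op 5 0 (.xor 1 0 (.focus 0 (.sym [[1], [3]] (.cons [] 4 24 (.op 4 0 (.focus 0 (.cons [] 0 24 (.focus 3 (.xor 5 0 (.focus 0 (.xor 6 3 (.focus 0 (.sym [[5], [7], [9]] (.cons [] 2 3 (.op 4 0 (.focus 0 (.cons [] 0 3 .triv .nil))) (.cons [3] 2 0 (.base (nat_lit 8101306) (.and 0 8 (.dead 0))) .nil)))))))) .nil))) .nil))))))
noncomputable def TK : List (List Nat) := [[33], [33, 33, 33, 35], [33, 35], [35, 33, 33, 35, 35, 33], [34, 34, 35, 35]]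
noncomputable def TF : List (List Nat) := [[], [1]]
noncomputable def ss : List (List Nat) := [[19], [21], [23], [25], [27], [29], [31]]
noncomputable def cs : List (List Nat) := [[33], [35]]
noncomputable def z : List Nat := [31]
noncomputable def pc : List (List Nat × List (List Nat)) := [([], [[1], [11, 3], [11, 5, 1], [9, 7], [9], [11]]), ([], [[9, 7, 1], [3], [9, 5], [7], [9]]), ([], [[3, 1], [3], [5], [7]]), ([], [[1], [5, 3], [5]]), ([], [[1], [3]]), ([], [[1]]), ([], [])]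
noncomputable def ts : List (List Nat) := [[33], [33, 33]]
noncomputable def tb : List (List (Nat × List Nat)) := [[(1, []), (0, [13, 11, 7, 5, 1])], [(2, []), (2, [9, 7, 5, 3])], [(0, [13, 3, 1]), (1, [13, 11, 5])]]
noncomputable def nn : List (List Nat × List Nat × Nat × Nat) := [([5], [9, 5, 3], 1, 3), ([5, 3], [5, 3], 2, 3)]
noncomputable def st : List (List Nat × List Nat × List Nat) := [([16, 5, 17, 13, 16, 14], [1], [5]), ([16, 5, 16, 13, 15], [3], [9]), ([12, 10, 16, 16, 14], [1], [7]), ([17, 10, 18, 13, 16, 14], [1], [11]), ([5, 5, 18, 10, 17, 14], [9], [1])]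
noncomputable def fin : List (List Nat) := [[1], [11, 5, 1, 5, 1], [9], [5], [7], [3], [11]]

end CF.Bt.FusM22
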