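import Cfsg.Agent.Bt.Defs

set_option autoImplicit false
set_option maxRecDepth 1000000

namespace CF.Bt.FusM24

open CF.Comp

noncomputable def X_0 : Net := (Net.cons (nat_lit 1) (nat_lit 16660) (Net.cons (nat_lit 2) (nat_lit 3145760) (Net.cons (nat_lit 4) (nat_lit 787712) (Net.cons (nat_lit 8) (nat_lit 15) (Net.cons (nat_lit 16) (nat_lit 31) (Net.cons (nat_lit 8) (nat_lit 199) (Net.cons (nat_lit 4) (nat_lit 396813) (Net.cons (nat_lit 2) (nat_lit 2233123) (Net.cons (nat_lit 1) (nat_lit 4194372) Net.nil)))))))))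
noncomputable def X_1 : Net := (Net.cons (nat_lit 1) (nat_lit 4194384) (Net.cons (nat_lit 2) (nat_lit 1179664) (Net.cons (nat_lit 4) (nat_lit 590336) (Net.cons (nat_lit 8) (nat_lit 33) (Net.cons (nat_lit 16) (nat_lit 167) (Net.cons (nat_lit 8) (nat_lit 118) (Net.cons (nat_lit 4) (nat_lit 724495) (Net.cons (nat_lit 2) (nat_lit 2163216) (Net.cons (nat_lit 1) (nat_lit 1376576) Net.nil)))))))))
noncomputable def X : List Net := [X_0, X_1]
noncomputable def X1_0 : Net := (Net.cons (nat_lit 1) (nat_lit 1119488) (Net.cons (nat_lit 2) (nat_lit 201248) (Net.cons (nat_lit 4) (nat_lit 656128) (Net.cons (nat_lit 8) (nat_lit 5) (Net.cons (nat_lit 16) (nat_lit 207) (Net.cons (nat_lit 8) (nat_lit 44) (Net.cons (nat_lit 4) (nat_lit 133892) (Net.cons (nat_lit 2) (nat_lit 197393) (Net.cons (nat_lit 1) (nat_lit 5) Net.nil)))))))))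
noncomputable def X1_1 : Net := (Net.cons (nat_lit 1) (nat_lit 70656) (Net.cons (nat_lit 2) (nat_lit 1249280) (Net.cons (nat_lit 4) (nat_lit 655360) (Net.cons (nat_lit 8) (nat_lit 132) (Net.cons (nat_lit 16) (nat_lit 207) (Net.cons (nat_lit 8) (nat_lit 166) (Net.cons (nat_lit 4) (nat_lit 917762) (Net.cons (nat_lit 2) (nat_lit 1253648) (Net.cons (nat_lit 1) (nat_lit 4199508) Net.nil)))))))))
noncomputable def X1_2 : Net := (Net.cons (nat_lit 1) (nat_lit 1070144) (Net.cons (nat_lit 2) (nat_lit 2302720) (Net.cons (nat_lit 4) (nat_lit 592384) (Net.cons (nat_lit 8) (nat_lit 16) (Net.cons (nat_lit 16) (nat_lit 25) (Net.cons (nat_lit 8) (nat_lit 131) (Net.cons (nat_lit 4) (nat_lit 68102) (Net.cons (nat_lit 2) (nat_lit 1254192) (Net.cons (nat_lit 1) (nat_lit 4280336) Net.nil)))))))))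
noncomputable def X1_3 : Net := (Net.cons (nat_lit 1) (nat_lit 69904) (Net.cons (nat_lit 2) (nat_lit 12304) (Net.cons (nat_lit 4) (nat_lit 67840) (Net.cons (nat_lit 8) (nat_lit 97) (Net.cons (nat_lit 16) (nat_lit 245) (Net.cons (nat_lit 8) (nat_lit 240) (Net.cons (nat_lit 4) (nat_lit 133635) (Net.cons (nat_lit 2) (nat_lit 3158545) (Net.cons (nat_lit 1) (nat_lit 21776) Net.nil)))))))))
noncomputable def X1_4 : Net := (Net.cons (nat_lit 1) (nat_lit 4259844) (Net.cons (nat_lit 2) (nat_lit 2101280) (Net.cons (nat_lit 4) (nat_lit 394752) (Net.cons (nat_lit 8) (nat_lit 1) (Net.cons (nat_lit 16) (nat_lit 37) (Net.cons (nat_lit 8) (nat_lit 104) (Net.cons (nat_lit 4) (nat_lit 329476) (Net.cons (nat_lit 2) (nat_lit 2101523) (Net.cons (nat_lit 1) (nat_lit 1301) Net.nil)))))))))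
noncomputable def X1_5 : Net := (Net.cons (nat_lit 1) (nat_lit 1131840) (Net.cons (nat_lit 2) (nat_lit 143888) (Net.cons (nat_lit 4) (nat_lit 721664) (Net.cons (nat_lit 8) (nat_lit 18) (Net.cons (nat_lit 16) (nat_lit 154) (Net.cons (nat_lit 8) (nat_lit 12) (Net.cons (nat_lit 4) (nat_lit 723463) (Net.cons (nat_lit 2) (nat_lit 201219) (Net.cons (nat_lit 1) (nat_lit 1065217) Net.nil)))))))))
noncomputable def X1_6 : Net := (Net.cons (nat_lit 1) (nat_lit 5248320) (Net.cons (nat_lit 2) (nat_lit 2102016) (Net.cons (nat_lit 4) (nat_lit 853248) (Net.cons (nat_lit 8) (nat_lit 24) (Net.cons (nat_lit 16) (nat_lit 90) (Net.cons (nat_lit 8) (nat_lit 83) (Net.cons (nat_lit 4) (nat_lit 983306) (Net.cons (nat_lit 2) (nat_lit 69664) (Net.cons (nat_lit 1) (nat_lit 5329984) Net.nil)))))))))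
noncomputable def X1_7 : Net := (Net.cons (nat_lit 1) (nat_lit 4477264) (Net.cons (nat_lit 2) (nat_lit 1053440) (Net.cons (nat_lit 4) (nat_lit 3072) (Net.cons (nat_lit 8) (nat_lit 144) (Net.cons (nat_lit 16) (nat_lit 210) (Net.cons (nat_lit 8) (nat_lit 66) (Net.cons (nat_lit 4) (nat_lit 593153) (Net.cons (nat_lit 2) (nat_lit 131842) (Net.cons (nat_lit 1) (nat_lit 4527381) Net.nil)))))))))
noncomputable def X1_8 : Net := (Net.cons (nat_lit 1) (nat_lit 1376576) (Net.cons (nat_lit 2) (nat_lit 12800) (Net.cons (nat_lit 8) (nat_lit 161) (Net.cons (nat_lit 16) (nat_lit 163) (Net.cons (nat_lit 8) (nat_lit 44) (Net.cons (nat_lit 4) (nat_lit 525066) (Net.cons (nat_lit 2) (nat_lit 144163) (Net.cons (nat_lit 1) (nat_lit 1376576) Net.nil))))))))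
noncomputable def X1_9 : Net := (Net.cons (nat_lit 1) (nat_lit 5312580) (Net.cons (nat_lit 2) (nat_lit 2228528) (Net.cons (nat_lit 8) (nat_lit 196) (Net.cons (nat_lit 16) (nat_lit 205) (Net.cons (nat_lit 8) (nat_lit 196) (Net.cons (nat_lit 4) (nat_lit 2051) (Net.cons (nat_lit 2) (nat_lit 2232337) (Net.cons (nat_lit 1) (nat_lit 5247040) Net.nil))))))))
noncomputable def X1_10 : Net := (Net.cons (nat_lit 1) (nat_lit 1280) (Net.cons (nat_lit 2) (nat_lit 2101264) (Net.cons (nat_lit 8) (nat_lit 32) (Net.cons (nat_lit 16) (nat_lit 36) (Net.cons (nat_lit 8) (nat_lit 42) (Net.cons (nat_lit 4) (nat_lit 257) (Net.cons (nat_lit 2) (nat_lit 2101810) (Net.cons (nat_lit 1) (nat_lit 66816) Net.nil))))))))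
noncomputable def X1_11 : Net := (Net.cons (nat_lit 1) (nat_lit 4198656) (Net.cons (nat_lit 2) (nat_lit 1052960) (Net.cons (nat_lit 4) (nat_lit 262656) (Net.cons (nat_lit 8) (nat_lit 17) (Net.cons (nat_lit 16) (nat_lit 83) (Net.cons (nat_lit 8) (nat_lit 49) (Net.cons (nat_lit 4) (nat_lit 263688) (Net.cons (nat_lit 2) (nat_lit 1052961) (Net.cons (nat_lit 1) (nat_lit 4198656) Net.nil)))))))))
noncomputable def X1_12 : Net := (Net.cons (nat_lit 1) (nat_lit 348160) (Net.cons (nat_lit 2) (nat_lit 74240) (Net.cons (nat_lit 4) (nat_lit 527360) (Net.cons (nat_lit 16) (nat_lit 12) (Net.cons (nat_lit 8) (nat_lit 224) (Net.cons (nat_lit 4) (nat_lit 527616) (Net.cons (nat_lit 2) (nat_lit 205312) (Net.cons (nat_lit 1) (nat_lit 348161) Net.nil))))))))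
noncomputable def X1_13 : Net := (Net.cons (nat_lit 1) (nat_lit 1130496) (Net.cons (nat_lit 2) (nat_lit 1253376) (Net.cons (nat_lit 4) (nat_lit 198656) (Net.cons (nat_lit 8) (nat_lit 5) (Net.cons (nat_lit 16) (nat_lit 135) (Net.cons (nat_lit 8) (nat_lit 178) (Net.cons (nat_lit 4) (nat_lit 985100) (Net.cons (nat_lit 2) (nat_lit 2298114) (Net.cons (nat_lit 1) (nat_lit 4461909) Net.nil)))))))))
noncomputable def X1_14 : Net := (Net.cons (nat_lit 1) (nat_lit 349440) (Net.cons (nat_lit 2) (nat_lit 196864) (Net.cons (nat_lit 4) (nat_lit 589824) (Net.cons (nat_lit 8) (nat_lit 232) (Net.cons (nat_lit 16) (nat_lit 252) (Net.cons (nat_lit 8) (nat_lit 215) (Net.cons (nat_lit 4) (nat_lit 393729) (Net.cons (nat_lit 2) (nat_lit 197120) (Net.cons (nat_lit 1) (nat_lit 5242965) Net.nil)))))))))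
noncomputable def X1_15 : Net := (Net.cons (nat_lit 1) (nat_lit 1397008) (Net.cons (nat_lit 2) (nat_lit 196864) (Net.cons (nat_lit 4) (nat_lit 589824) (Net.cons (nat_lit 8) (nat_lit 208) (Net.cons (nat_lit 16) (nat_lit 217) (Net.cons (nat_lit 8) (nat_lit 246) (Net.cons (nat_lit 4) (nat_lit 590338) (Net.cons (nat_lit 2) (nat_lit 196864) (Net.cons (nat_lit 1) (nat_lit 1397008) Net.nil)))))))))
noncomputable def X1_16 : Net := (Net.cons (nat_lit 1) (nat_lit 1114432) (Net.cons (nat_lit 2) (nat_lit 3219712) (Net.cons (nat_lit 4) (nat_lit 851968) (Net.cons (nat_lit 8) (nat_lit 41) (Net.cons (nat_lit 16) (nat_lit 105) (Net.cons (nat_lit 8) (nat_lit 45) (Net.cons (nat_lit 4) (nat_lit 854536) (Net.cons (nat_lit 2) (nat_lit 1114880) (Net.cons (nat_lit 1) (nat_lit 5309761) Net.nil)))))))))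
noncomputable def X1_17 : Net := (Net.cons (nat_lit 1) (nat_lit 87360) (Net.cons (nat_lit 4) (nat_lit 592128) (Net.cons (nat_lit 8) (nat_lit 16) (Net.cons (nat_lit 16) (nat_lit 24) (Net.cons (nat_lit 8) (nat_lit 147) (Net.cons (nat_lit 4) (nat_lit 593156) (Net.cons (nat_lit 2) (nat_lit 1048576) (Net.cons (nat_lit 1) (nat_lit 87360) Net.nil))))))))
noncomputable def X1_18 : Net := (Net.cons (nat_lit 1) (nat_lit 5505028) (Net.cons (nat_lit 2) (nat_lit 197120) (Net.cons (nat_lit 4) (nat_lit 853760) (Net.cons (nat_lit 8) (nat_lit 1) (Net.cons (nat_lit 16) (nat_lit 149) (Net.cons (nat_lit 8) (nat_lit 90) (Net.cons (nat_lit 4) (nat_lit 787969) (Net.cons (nat_lit 2) (nat_lit 197120) (Net.cons (nat_lit 1) (nat_lit 5505028) Net.nil)))))))))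
noncomputable def X1_19 : Net := (Net.cons (nat_lit 1) (nat_lit 5242884) (Net.cons (nat_lit 2) (nat_lit 73728) (Net.cons (nat_lit 4) (nat_lit 131328) (Net.cons (nat_lit 8) (nat_lit 65) (Net.cons (nat_lit 16) (nat_lit 125) (Net.cons (nat_lit 8) (nat_lit 150) (Net.cons (nat_lit 4) (nat_lit 462351) (Net.cons (nat_lit 2) (nat_lit 2294306) (Net.cons (nat_lit 1) (nat_lit 5505044) Net.nil)))))))))
noncomputable def X1_20 : Net := (Net.cons (nat_lit 1) (nat_lit 5312832) (Net.cons (nat_lit 2) (nat_lit 78080) (Net.cons (nat_lit 4) (nat_lit 393984) (Net.cons (nat_lit 8) (nat_lit 139) (Net.cons (nat_lit 16) (nat_lit 251) (Net.cons (nat_lit 8) (nat_lit 143) (Net.cons (nat_lit 4) (nat_lit 920320) (Net.cons (nat_lit 2) (nat_lit 78080) (Net.cons (nat_lit 1) (nat_lit 5312832) Net.nil)))))))))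
noncomputable def X1_21 : Net := (Net.cons (nat_lit 1) (nat_lit 1376512) (Net.cons (nat_lit 2) (nat_lit 197376) (Net.cons (nat_lit 4) (nat_lit 720896) (Net.cons (nat_lit 8) (nat_lit 210) (Net.cons (nat_lit 16) (nat_lit 250) (Net.cons (nat_lit 8) (nat_lit 244) (Net.cons (nat_lit 4) (nat_lit 590338) (Net.cons (nat_lit 2) (nat_lit 197376) (Net.cons (nat_lit 1) (nat_lit 1376512) Net.nil)))))))))
noncomputable def X1_22 : Net := (Net.cons (nat_lit 1) (nat_lit 5505024) (Net.cons (nat_lit 2) (nat_lit 131584) (Net.cons (nat_lit 4) (nat_lit 327936) (Net.cons (nat_lit 8) (nat_lit 195) (Net.cons (nat_lit 16) (nat_lit 243) (Net.cons (nat_lit 8) (nat_lit 240) (Net.cons (nat_lit 4) (nat_lit 393731) (Net.cons (nat_lit 2) (nat_lit 201216) (Net.cons (nat_lit 1) (nat_lit 5505024) Net.nil)))))))))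
noncomputable def X1_23 : Net := (Net.cons (nat_lit 1) (nat_lit 349204) (Net.cons (nat_lit 2) (nat_lit 2162688) (Net.cons (nat_lit 4) (nat_lit 131072) (Net.cons (nat_lit 8) (nat_lit 76) (Net.cons (nat_lit 16) (nat_lit 223) (Net.cons (nat_lit 8) (nat_lit 200) (Net.cons (nat_lit 4) (nat_lit 461062) (Net.cons (nat_lit 2) (nat_lit 1184544) (Net.cons (nat_lit 1) (nat_lit 1328385) Net.nil)))))))))
noncomputable def X1_24 : Net := (Net.cons (nat_lit 1) (nat_lit 349444) (Net.cons (nat_lit 2) (nat_lit 1114368) (Net.cons (nat_lit 4) (nat_lit 788736) (Net.cons (nat_lit 8) (nat_lit 10) (Net.cons (nat_lit 16) (nat_lit 202) (Net.cons (nat_lit 8) (nat_lit 133) (Net.cons (nat_lit 4) (nat_lit 327942) (Net.cons (nat_lit 2) (nat_lit 1126656) (Net.cons (nat_lit 1) (nat_lit 329024) Net.nil)))))))))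
noncomputable def X1 : List Net := [X1_0, X1_1, X1_2, X1_3, X1_4, X1_5, X1_6, X1_7, X1_8, X1_9, X1_10, X1_11, X1_12, X1_13, X1_14, X1_15, X1_16, X1_17, X1_18, X1_19, X1_20, X1_21, X1_22, X1_23, X1_24]
noncomputable def ws : List (List Nat) := [[4, 1, 5, 29, 7, 21, 12, 27, 18, 21], [11, 3, 19, 5, 22, 7, 13, 13, 18, 22, 27, 25]]
noncomputable def W : List (List Nat) := [[4, 4, 1, 1], [4, 2, 3, 1], [8, 8, 5, 7], [5, 7, 7, 6], [10, 10, 12, 12], [9, 12, 9, 11, 10], [13, 16, 13, 15, 14], [14, 15, 14, 16], [18, 20, 18, 19, 18, 20, 17, 19], [19, 18, 19, 18, 20, 18], [19, 18, 20, 17, 20, 17, 19], [22, 25, 21], [21, 23, 21], [9, 3, 13, 6, 13, 9, 17, 14, 29, 18, 29], [6, 3, 8, 20, 12, 20, 18, 29, 27, 25], [3, 15, 6, 19, 9, 27, 16, 20, 18, 21, 25], [18, 20, 22, 29, 27], [19, 17, 21, 25, 27, 29, 22, 23], [6, 3, 8, 20, 12, 18, 22, 29, 27, 25], [10, 3, 19, 6, 13, 9, 19, 16, 29, 18, 27, 25], [6, 3, 8, 20, 12, 20,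 20, 22, 27], [6, 3, 8, 10, 17, 15, 17, 29, 25], [6, 3, 8, 20, 12, 29, 18, 22, 25, 27, 29, 22, 23], [16, 3, 17, 6, 19, 9, 17, 16, 21], [12, 3, 27, 6, 17, 12, 14, 16, 20, 21, 25, 22, 23]]
noncomputable def c : List Lvl := [⟨(nat_lit 19), [[(nat_lit 1)],
  [(nat_lit 3)]], (nat_lit 5)⟩,
  ⟨(nat_lit 12), [[(nat_lit 5)],
  [(nat_lit 7)]], (nat_lit 5)⟩,
  ⟨(nat_lit 21), [[(nat_lit 9)],
  [(nat_lit 11)]], (nat_lit 6)⟩,
  ⟨(nat_lit 4), [[(nat_lit 13)],
  [(nat_lit 15)]], (nat_lit 5)⟩,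
  ⟨(nat_lit 22), [[(nat_lit 17)],
  [(nat_lit 19)]], (nat_lit 4)⟩,
  ⟨(nat_lit 15), [[(nat_lit 21)],
  [(nat_lit 23)],
  [(nat_lit 25)]], (nat_lit 1)⟩,
  ⟨(nat_lit 8), [[(nat_lit 25)],
  [(nat_lit 22), (nat_lit 23)],
  [(nat_lit 27)],
  [(nat_lit 29)]], (nat_lit 1)⟩]
noncomputable def cz : List Lvl := [⟨(nat_lit 22), [[(nat_lit 51)],
  [(nat_lit 53)]], (nat_lit 4)⟩,
  ⟨(nat_lit 1), [[(nat_lit 53), (nat_lit 53)],
  [(nat_lit 51), (nat_lit 53), (nat_lit 51), (nat_lit 51)]], (nat_lit 5)⟩,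
  ⟨(nat_lit 5), [[(nat_lit 52), (nat_lit 53), (nat_lit 53), (nat_lit 51)],
  [(nat_lit 51), (nat_lit 54), (nat_lit 52), (nat_lit 54), (nat_lit 51), (nat_lit 53)],
  [(nat_lit 53), (nat_lit 51), (nat_lit 54), (nat_lit 51), (nat_lit 53), (nat_lit 53)]], (nat_lit 2)⟩,
  ⟨(nat_lit 7), [[(nat_lit 54), (nat_lit 51), (nat_lit 53), (nat_lit 53), (nat_lit 52), (nat_lit 53)],
  [(nat_lit 54), (nat_lit 52), (nat_lit 52), (nat_lit 53), (nat_lit 53), (nat_lit 51), (nat_lit 51), (nat_lit 53)],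
  [(nat_lit 51), (nat_lit 53), (nat_lit 52), (nat_lit 53), (nat_lit 53), (nat_lit 51), (nat_lit 54), (nat_lit 52)]], (nat_lit 1)⟩]
noncomputable def cS : List Lvl := [⟨(nat_lit 18), [[(nat_lit 31)],
  [(nat_lit 33)],
  [(nat_lit 35)],
  [(nat_lit 37)],
  [(nat_lit 39)],
  [(nat_lit 41)],
  [(nat_lit 43)],
  [(nat_lit 45)],
  [(nat_lit 47)],
  [(nat_lit 49)]], (nat_lit 1)⟩,
  ⟨(nat_lit 10), [[(nat_lit 35)],
  [(nat_lit 37)],
  [(nat_lit 39)],
  [(nat_lit 49), (nat_lit 47), (nat_lit 33)]], (nat_lit 1)⟩,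
  ⟨(nat_lit 13), [[(nat_lit 35)],
  [(nat_lit 41), (nat_lit 39)]], (nat_lit 2)⟩]
noncomputable def T : Tr := (.sym [[1], [3]] (.cons [] 4 1344 (.op 4 0 (.focus 0 (.cons [] 0 1344 (.op 2 0 (.xor 0 1 (.focus 0 (.xor 1 4 (.focus 0 (.sym [[5], [7], [9], [11]] (.cons [] 2 96 (.op 4 0 (.focus 0 (.cons [] 0 96 (.focus 4 (.focus 3 (.xor 5 0 (.focus 0 (.xor 6 3 (.focus 0 (.sym [[13], [15], [17]] (.cons [] 2 8 (.op 4 0 (.focus 0 (.cons [] 0 8 (.base (nat_lit 8873967) (.focus 0 (.sym [[19], [21], [23]] (.cons [] 1 1 .triv (.cons [1] 1 0 (.op 5 0 (.and 1 0 (.dead0 0))) .nil))))) .nil))) (.cons [3] 3 0 (.op 5 0 (.and 1 0 (.dead0 0))) .nil))))))))) .nil))) (.cons [4] 1 0 (.op 5 0 (.and 1 0 (.dead0 0))) .nil)))))))) .nil))) (.cons [2] 3 0 (.op 5 0 (.and 1 0 (.dead0 0))) .nil)))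
noncomputable def TK : List (List Nat) := [[51], [53], [51, 51, 54, 51, 54, 51], [52, 52, 53, 53, 51, 51, 54, 52, 53, 52], [53, 51, 51, 54, 51, 53, 53, 51, 51], [54, 52, 54, 51, 53, 51, 51, 53, 53, 52], [53, 51, 51, 51, 54, 51, 51, 53, 53], [54, 52, 52, 53, 51, 53, 53, 52, 54, 51, 51], [53, 52, 54, 52, 53, 53, 52, 52, 53, 51, 51], [53, 52, 52, 53, 51, 53, 53, 52, 54, 51, 51], [54, 52, 52, 54, 51, 53, 51, 53, 53, 51, 51], [53, 53]]
noncomputable def TF : List (List Nat) := [[], [1]]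
noncomputable def ss : List (List Nat) := [[31], [33], [35], [37], [39], [41], [43], [45], [47], [49]]
noncomputable def cs : List (List Nat) := [[51], [53]]
noncomputable def z : List Nat := [49]
noncomputable def pc : List (List Nat × List (List Nat)) := [([], [[17, 15, 11, 9, 5, 3, 1], [17, 15, 13, 9], [5], [7], [17, 9], [13, 7], [11, 7], [11, 9, 7, 3], [17]]), ([], [[1], [15, 11, 5], [11, 7, 3], [7], [15, 11, 9, 5, 3], [15, 11, 7], [13], [15]]), ([], [[13, 7, 5, 3, 1], [13, 7], [5], [13, 3], [13, 9], [11], [13]]), ([], [[1], [3], [5], [7], [9, 7, 3], [11]]), ([], [[1], [3], [5], [9, 7, 5], [9]]), ([], [[1], [3], [5], [7]]), ([], [[1], [3, 1], [5]]), ([], [[1], [3]]), ([], [[1]]), ([], [])]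
noncomputable def ts : List (List Nat) := [[51], [53], [51, 51], [53, 51], [51, 53], [53, 51, 51], [51, 53, 51], [51, 51, 53], [53, 51, 53], [51, 53, 51, 51], [51, 51, 53, 51], [53, 51, 53, 51], [51, 53, 51, 53], [53, 53, 51, 53], [51, 51, 53, 51, 51], [53, 51, 53, 51, 51], [51, 53, 51, 53, 51], [51, 51, 53, 51, 53], [51, 53, 53, 51, 53], [51, 51, 53, 51, 53, 51]]
noncomputable def tb : List (List (Nat × List Nat)) := [[(1, []), (2, [])], [(3, []), (4, [])], [(5, []), (1, [17, 15, 13, 11, 7, 1])], [(0, [19, 17, 15, 13, 11, 7, 3]), (6, [])], [(7, []), (0, [19, 15, 9, 7, 5, 1])], [(8, []), (9, [])], [(10, []), (3, [19, 3])], [(11, []), (12, [])], [(2, [19, 17, 13, 5, 1]), (5, [19, 17, 13, 11, 9, 7])], [(13, []), (14, [])], [(15, []), (16, [])], [(4, [19, 15, 13, 11, 9, 7, 1]), (10, [13, 11, 3, 1])], [(17, []), (13, [15, 11, 9, 7, 5, 3, 1])], [(18, []), (15, [19, 5])], [(19, []), (8, [17, 15, 13, 9,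 7])], [(6, [19, 17, 15, 13, 7, 5]), (7, [19, 17, 5, 3, 1])], [(14, [17, 13, 9, 5]), (17, [19, 17, 15, 13, 11, 9, 3, 1])], [(20, []), (11, [13, 5])], [(9, [17, 15, 11, 7, 3, 1]), (19, [19, 13, 11, 9, 3, 1])], [(16, [17, 15, 13, 9, 7, 3, 1]), (18, [17, 15, 11, 7, 5, 3, 1])], [(12, [9, 7, 5, 3]), (20, [11, 7, 3])]]
noncomputable def nn : List (List Nat × List Nat × Nat × Nat) := [([15, 13, 5], [17, 15], 1, 3), ([15, 11, 9, 1], [13, 1], 1, 3), ([11, 3], [11, 9, 3], 1, 3), ([17, 15], [7], 2, 3), ([17, 13, 1], [15, 11, 7], 1, 3), ([17, 15, 13], [15, 13, 11], 1, 3), ([13, 3], [15, 13, 3], 1, 3), ([9, 7, 1], [15, 7, 5, 3], 1, 3), ([13, 3], [15, 11, 9, 1], 1, 3), ([19, 17, 7], [15, 13, 5], 1, 3), ([17, 15], [19, 17], 1, 3), ([15, 13, 11, 5], [13, 11, 3], 1, 3), ([13, 11], [5], 1, 3), ([15, 13, 11, 3], [1], 1, 3), ([17], [17, 9, 1], 1, 3), ([7], [17, 7], 1, 3), ([17, 7, 3], [17, 9, 3], 1, 3), ([11, 9], [5],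 1, 3), ([15, 3, 1], [5], 2, 3), ([1], [13, 1], 1, 3)]
noncomputable def st : List (List Nat × List Nat × List Nat) := [([16, 12, 27, 16, 19, 17, 22, 25, 22, 23], [1], [17]), ([24, 18, 21, 25, 29, 22, 23], [3], [11]), ([11, 3, 20, 6, 9, 17, 14, 17, 19, 27, 29, 22, 23], [5], [9]), ([7, 2, 19, 6, 17, 9, 17, 16, 24, 17, 29], [5], [7]), ([12, 3, 27, 6, 24, 9, 17, 15, 19, 21, 25, 22, 23], [7], [5]), ([10, 3, 5, 8, 12, 12, 13, 16, 18, 20, 22], [3], [11, 3]), ([24, 4, 6, 6, 12, 12, 27, 16, 18, 22, 22, 23], [11], [7, 1])]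
noncomputable def fin : List (List Nat) := [[7, 1], [11, 3], [5], [7], [9], [11], [15, 5, 9, 5], [15, 9, 3, 7, 3], [13], [15]]

end CF.Bt.FusM24
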