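import Cfsg.Agent.Bt.Pc3
import Cfsg.Agent.Bt.Res
import Cfsg.Agent.Comp.Mat
import Cfsg.Agent.Spec.L33

set_option autoImplicit false
set_option maxRecDepth 1000000

namespace CF.Bt.M11C

open CF.Comp CF.Comp.Mat CF.Spec.L33 Subgroup


/-- one class of involutions, with centraliser `GL(2, 3)` -/
def GL23 (G : Type*) [Group G] : Prop := ∃ a : G, (∀ x, orderOf x = 2 → ∃ k, k * x * k⁻¹ = a) ∧
  Nonempty (centralizer {a} ≃* GL (Fin 2) (ZMod 3))

theorem card_gl : Nat.card (GL (Fin 2) (ZMod 3)) = 48 := by rw [CF.Classical.card_GL_two, ZMod.card]; rfl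

theorem gl23 {G Ω : Type*} [Group G] [MulAction G Ω] {n : ℕ} {D : Dom Ω n} {nets : List Net} {f : ℕ → G}
    {c : List Lvl} (hE : Exact D nets f c ⊤) {k : ℕ} (hk : n ≤ 2 ^ k) (h0 : 0 < n) {s m : ℕ} (hs : Nat.card G = s)
    (h2 : s = 2 ^ 4 * m) (hm : ¬ 2 ∣ m) {P : PD} (h1 : pOK nets n k 2 P 4 = true) {z : List ℕ} {F : FD}
    (h3 : clOK nets n k 2 P.c [z] F = true) {C : CD} {c' : List Lvl} (h4 : ceqOK nets n k s z C c' 48 = true)
    {M : MD} {l : ℕ} (h5 : mdOK nets n 8 l 48 M = true) (h6 : commW nets n k M.ws [z] = true)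
    (h7 : HasReps (GL (Fin 2) (ZMod 3)) 8 M.nets l) : GL23 G :=
  have := Classical.decEq Ω
  have := Exact.finite_top hE
  ⟨ev f z, fun _ hx => let ⟨_, hw, e⟩ := clOK_spec hE hk Nat.prime_two (hs.trans h2) hm h1 h3 hx
    List.mem_singleton.1 hw ▸ e, md_equiv hE.reps h5 (fun w hw => mem_centralizer_singleton_iff.2
      (comm_of_commW hE.reps hk hE.faithful (fun _ _ => trivial) (fun _ _ => trivial) h6 w hw z (by simp)))
    (ceqOK_spec hE hk h0 hs h4).2.le h7 card_gl.le⟩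

noncomputable def az : List Nat := [3, 1]
noncomputable def CazT : Tr := (.base (nat_lit 16436384) (.focus 0 (.sym [[1], [3], [5]] (.cons [] 2 6 (.op 4 0 (.focus 0 (.cons [] 0 6 (.base (nat_lit 12814) (.focus 0 (.sym [[1], [7]] (.cons [] 1 2 (.focus 1 (.op 4 0 (.focus 0 (.cons [] 0 2 .triv .nil)))) (.cons [3] 2 0 (.base (nat_lit 3146912) (.op 5 0 (.and 1 0 (.dead 0)))) .nil))))) .nil))) (.cons [4] 3 0 (.op 5 0 (.and 1 0 (.dead0 0))) .nil)))))
noncomputable def CazTK : List (List Nat) := [[9, 6], [3, 1], [6, 4, 14], [14, 6, 4, 10]]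
noncomputable def CazTF : List (List Nat) := [[], [1]]
noncomputable def Caz : CD := ⟨[⟨23, [[1], [3]], 4⟩, ⟨19, [[4, 6], [1, 7]], 4⟩, ⟨3, [[5, 14], [16, 3, 3]], 3⟩, ⟨1, [[5, 10], [2, 10, 14, 2]], 2⟩, ⟨10, [[5, 10]], 1⟩], CazTF, CazTK, CazT⟩
noncomputable def caz : List Lvl := [⟨2, [[5, 10], [6, 4, 14]], 5⟩, ⟨1, [[6, 4, 14], [4, 9, 3, 7]], 2⟩]
noncomputable def aS : PD := ⟨[[2, 5, 16, 5, 1], [6, 16, 3, 2], [16, 1, 9, 1], [3, 1]], [([5], [[3], [1], [5]]), ([], [[3, 1], [3]]), ([], [[1]]), ([], [])], [⟨23, [[13, 2, 5], [1, 4, 15, 5]], 3⟩, ⟨5, [[1, 4, 15, 5]], 1⟩], [[7, 5, 1], [3], [3]]⟩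
noncomputable def aFB : BT Ent := (.node 385794 (.node 311300 (.leaf ⟨29481, [7, 1, 7, 2], 0⟩) (.node 357415 (.leaf ⟨311300, [15, 4, 7, 10], 0⟩) (.leaf ⟨357415, [2, 3, 16, 9], 0⟩))) (.node 419467 (.leaf ⟨385794, [13, 1, 5, 2], 0⟩) (.node 518635 (.leaf ⟨419467, [], 1⟩) (.leaf ⟨518635, [1, 15, 13, 1], 0⟩))))
noncomputable def aF : FD := ⟨1000003, aFB, [[[], [1], [2], [2, 2], [1, 1], [1, 4], [2, 4], [1, 4, 1]], [[], [2]]]⟩
noncomputable def aM : MD := ⟨[[9, 6], [3, 1], [6, 4, 14]], [(nat_lit 2), (nat_lit 4), (nat_lit 8), (nat_lit 256), (nat_lit 512), (nat_lit 4096), (nat_lit 8192), (nat_lit 262144)], [(Net.cons (nat_lit 4) (nat_lit 10) (Net.cons (nat_lit 2) (nat_lit 16) Net.nil)), (Net.cons (nat_lit 1) (nat_lit 16) (Net.cons (nat_lit 4) (nat_lit 10) (Net.cons (nat_lit 2) (nat_lit 17) (Net.cons (nat_lit 1) (nat_lit 16) Net.nil)))), (Net.cons (nat_lit 2) (nat_lit 32) (Net.cons (nat_lit 4) (nat_lit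 12) (Net.cons (nat_lit 2) (nat_lit 1) (Net.cons (nat_lit 1) (nat_lit 68) Net.nil))))], [⟨1, [[1], [5]], 5⟩, ⟨0, [[5], [2, 6, 1, 5, 1]], 2⟩]⟩
noncomputable def aV : List (List Nat) := [[(nat_lit 136), (nat_lit 84), (nat_lit 35)],
  [(nat_lit 96), (nat_lit 14), (nat_lit 145)]]
noncomputable def aT : Net := (Net.cons (nat_lit 1) (nat_lit 64) (Net.cons (nat_lit 2) (nat_lit 48) (Net.cons (nat_lit 4) (nat_lit 12) (Net.cons (nat_lit 2) (nat_lit 16) (Net.cons (nat_lit 1) (nat_lit 4) Net.nil)))))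
noncomputable def aA : List (List (List Nat)) := [[[1, 0], [2, 2]],
  [[2, 0], [0, 2]],
  [[2, 1], [2, 0]]]
noncomputable def aB : List (List (List Nat)) := [[[1, 0], [2, 2]],
  [[2, 0], [0, 2]],
  [[0, 2], [1, 2]]]
theorem kaz : ceqOK iN 24 5 7920 az Caz caz 48 = true := by decide +kernel
theorem paS : pOK iN 24 5 2 aS 4 = true := by decide +kernel
theorem faF : clOK iN 24 5 2 aS.c [az] aF = true := by decide +kernel

theorem agl : GL23 Cfsg.Spor.M11 := by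
  exact gl23 (exact_sub_top iExact iMem) (k := 5) (by decide) (by decide) card_M11 (m := 495) rfl (by decide) paS faF kaz (M := aM)
    (l := 3) (by decide +kernel) (by decide +kernel) (hasReps_vec (V := aV) (σ := aT) (As := aA) (d := 2) (by decide +kernel)
      (tabP_ok (ZMod 3) 3 (by decide)) (Equiv.refl _) (Units.coeHom _)
      (exists_gl (tabP_ok (ZMod 3) 3 (by decide)) _ (Bs := aB) (by decide +kernel)))

noncomputable def bz : List Nat := [11]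
noncomputable def CbzT : Tr := (.sym [[1], [3], [5], [7], [9]] (.cons [] 1 6 (.op 4 0 (.focus 0 (.cons [] 0 6 (.base (nat_lit 1015) (.focus 0 (.sym [[5], [11]] (.cons [] 2 1 (.op 4 0 (.focus 0 (.cons [] 0 1 .triv .nil))) (.cons [4] 2 0 (.op 5 0 (.and 1 0 (.dead0 0))) .nil))))) .nil))) (.cons [3] 1 0 (.op 5 0 (.and 1 0 (.dead0 0))) (.cons [2, 4] 0 0 (.op 5 0 (.and 1 0 (.dead0 0))) .nil))))
noncomputable def CbzTK : List (List Nat) := [[11], [13], [6, 10, 2], [8, 4, 8], [5, 15, 5], [11, 5, 15, 5]]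
noncomputable def CbzTF : List (List Nat) := [[], [1]]
noncomputable def Cbz : CD := ⟨[⟨12, [[1], [3]], 3⟩, ⟨3, [[7], [3, 7, 1]], 3⟩, ⟨4, [[6, 10, 2], [10, 8, 3]], 3⟩, ⟨6, [[5, 13, 6], [4, 5, 5, 5]], 1⟩], CbzTF, CbzTK, CbzT⟩
noncomputable def cbz : List Lvl := [⟨2, [[13], [16, 7, 2]], 3⟩, ⟨3, [[13], [5, 15, 5]], 2⟩]
noncomputable def bS : PD := ⟨[[13, 6, 10, 2], [11, 5, 15, 5], [10, 4, 10, 1], [11]], [([5], [[3], [1], [5]]), ([], [[3, 1], [3]]), ([], [[1]]), ([], [])], [⟨3, [[16, 7, 2], [5, 15, 5]], 2⟩, ⟨6, [[5, 12, 13, 6]], 1⟩], [[3, 1], [7, 3], [3]]⟩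
noncomputable def bFB : BT Ent := (.node 601344 (.node 468479 (.leaf ⟨51694, [15, 2, 2, 3], 0⟩) (.node 469014 (.leaf ⟨468479, [1, 7, 2, 2], 0⟩) (.leaf ⟨469014, [], 1⟩))) (.node 741813 (.leaf ⟨601344, [], 0⟩) (.node 796637 (.leaf ⟨741813, [13, 11, 9, 1], 0⟩) (.leaf ⟨796637, [2, 3, 6, 3], 0⟩))))
noncomputable def bF : FD := ⟨1000003, bFB, [[[], [1], [2], [4], [1, 1], [4, 1], [4, 2], [2, 2]], [[], [2]]]⟩
noncomputable def bM : MD := ⟨[[11], [13], [6, 10, 2], [8, 4, 8], [5, 15, 5]], [(nat_lit 4), (nat_lit 8), (nat_lit 16), (nat_lit 64), (nat_lit 128), (nat_lit 256), (nat_lit 512), (nat_lit 4096)], [(Net.cons (nat_lit 1) (nat_lit 64) (Net.cons (nat_lit 2) (nat_lit 16) (Net.cons (nat_lit 4) (nat_lit 3) (Net.cons (nat_lit 2) (nat_lit 32) (Net.cons (nat_lit 1) (nat_lit 21) Net.nil))))), (Net.cons (nat_lit 1) (nat_lit 80) (Net.cons (nat_lit 4) (nat_lit 4) (Net.cons (nat_lit 2) (nat_lit 34) (Net.cons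 (nat_lit 1) (nat_lit 80) Net.nil)))), (Net.cons (nat_lit 2) (nat_lit 16) (Net.cons (nat_lit 4) (nat_lit 1) (Net.cons (nat_lit 2) (nat_lit 16) (Net.cons (nat_lit 1) (nat_lit 20) Net.nil)))), (Net.cons (nat_lit 4) (nat_lit 14) (Net.cons (nat_lit 2) (nat_lit 19) (Net.cons (nat_lit 1) (nat_lit 69) Net.nil))), (Net.cons (nat_lit 1) (nat_lit 16) (Net.cons (nat_lit 4) (nat_lit 14) (Net.cons (nat_lit 2) (nat_lit 34) (Net.cons (nat_lit 1) (nat_lit 16) Net.nil))))], [⟨0, [[3], [5], [9]], 2⟩, ⟨1, [[3], [9]], 2⟩]⟩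
noncomputable def bV : List (List Nat) := [[(nat_lit 33), (nat_lit 22), (nat_lit 200)],
  [(nat_lit 80), (nat_lit 133), (nat_lit 42)]]
noncomputable def bT : Net := (Net.cons (nat_lit 1) (nat_lit 4) (Net.cons (nat_lit 2) (nat_lit 16) (Net.cons (nat_lit 4) (nat_lit 9) (Net.cons (nat_lit 2) (nat_lit 51) (Net.cons (nat_lit 1) (nat_lit 80) Net.nil)))))
noncomputable def bA : List (List (List Nat)) := [[[2, 0], [0, 2]],
  [[2, 0], [0, 1]],
  [[0, 2], [2, 0]],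
  [[2, 2], [1, 2]],
  [[2, 0], [2, 1]]]
noncomputable def bB : List (List (List Nat)) := [[[2, 0], [0, 2]],
  [[2, 0], [0, 1]],
  [[0, 2], [2, 0]],
  [[1, 2], [1, 1]],
  [[2, 0], [2, 1]]]
theorem kbz : ceqOK (lapp U0 U1) 13 4 5616 bz Cbz cbz 48 = true := by decide +kernel
theorem pbS : pOK (lapp U0 U1) 13 4 2 bS 4 = true := by decide +kernel
theorem fbF : clOK (lapp U0 U1) 13 4 2 bS.c [bz] bF = true := by decide +kernel

theorem bgl {F : Type*} [Field F] [Fintype F] (hF : Fintype.card F = 3) :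
    GL23 (Matrix.ProjectiveSpecialLinearGroup (Fin 3) F) := by
  have := Nat.finite_of_card_ne_zero ((card hF).trans_ne (by decide))
  obtain ⟨_, _, _, _, hE⟩ := CF.Spec.exists_exact (linU.hasReps_PSL (CF.Schur.Pc.exists_ok_prime Nat.prime_three hF) memU)
    chU (card hF)
  exact gl23 hE (k := 4) (by decide) (by decide) (card hF) (m := 351) rfl (by decide) pbS fbF kbz (M := bM)
    (l := 5) (by decide +kernel) (by decide +kernel) (hasReps_vec (V := bV) (σ := bT) (As := bA) (d := 2) (by decide +kernel)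
      (tabP_ok (ZMod 3) 3 (by decide)) (Equiv.refl _) (Units.coeHom _)
      (exists_gl (tabP_ok (ZMod 3) 3 (by decide)) _ (Bs := bB) (by decide +kernel)))

end CF.Bt.M11C
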